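import Mathlib

/-!
A group of order `3 · 898128000` with a subgroup of index `7128`, given suborbit lengths and a
simple quotient of the subgroup, is a central extension of a simple group.
-/

set_option autoImplicit false

namespace Cfsg.Agent.LyThree

open scoped Pointwise

/-- The suborbit lengths. -/
def lens : Fin 5 → Nat := ![1, 252, 3500, 2625, 750]

/-- A sum of some suborbit lengths. -/
def subSum (e : Fin 5 → Bool) : Nat := ∑ i, if e i then lens i else 0

theorem subSum_dvd : ∀ e : Fin 5 → Bool, e 0 = true → subSum e ∣ 7128 →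
    subSum e = 1 ∨ subSum e = 7128 := by
  decide +kernel

theorem subSum_eleven : ∀ e : Fin 5 → Bool, subSum e % 10 = 0 → subSum e / 10 ∣ 1944 →
    subSum e = 0 := by
  decide +kernel

theorem card_eleven {N : Type*} [Group N] [Finite N] (hN : Nat.card N = 21384) :
    ∃ n, 0 < n ∧ n ∣ 1944 ∧ Nat.card {a : N // orderOf a = 11} = 10 * n := by
  classical
  haveI : Fact (Nat.Prime 11) := ⟨by norm_num⟩
  have hP : ∀ P : Sylow 11 N, Nat.card P = 11 := fun P => by
    rw [P.card_eq_multiplicity, hN,
      Nat.factorization_def 21384 (Fact.out : Nat.Prime 11)]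
    rw [show (21384 : Nat) = 11 * 1944 by norm_num, padicValNat.mul (by norm_num) (by norm_num),
      padicValNat_self, padicValNat.eq_zero_of_not_dvd (by norm_num : ¬ 11 ∣ 1944)]
    norm_num
  have hdvd : Nat.card (Sylow 11 N) ∣ 1944 := by
    obtain ⟨P⟩ : Nonempty (Sylow 11 N) := inferInstance
    have h := P.1.card_mul_index
    rw [show Nat.card P.1 = 11 from hP P, hN] at h
    exact (P.card_dvd_index).trans (by rw [show P.1.index = 1944 by omega])
  refine ⟨_, Nat.card_pos, hdvd, ?_⟩
  let B := Σ P : Sylow 11 N, {a : P.1 // a ≠ 1}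
  have hord : ∀ b : B, orderOf (b.2.1 : N) = 11 := fun b => by
    rw [Subgroup.orderOf_coe]
    refine orderOf_eq_prime ?_ b.2.2
    simpa only [show Nat.card b.1.1 = 11 from hP b.1] using pow_card_eq_one' (x := b.2.1)
  let f : B → {a : N // orderOf a = 11} := fun b => ⟨b.2.1, hord b⟩
  have hz : ∀ b : B, Subgroup.zpowers (b.2.1 : N) = b.1.1 := fun b => by
    refine Subgroup.eq_of_le_of_card_ge (Subgroup.zpowers_le.2 b.2.1.2) ?_
    rw [Nat.card_zpowers, hord b, show Nat.card b.1.1 = 11 from hP b.1]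
  have hbij : Function.Bijective f := by
    constructor
    · rintro ⟨P, a, ha⟩ ⟨P', a', ha'⟩ h
      have e : (a : N) = a' := congrArg Subtype.val h
      have hPP : P = P' := Sylow.ext (by rw [← hz ⟨P, a, ha⟩, ← hz ⟨P', a', ha'⟩]; simp only [e])
      subst hPP
      obtain rfl : a = a' := Subtype.ext e
      rfl
    · rintro ⟨a, ha⟩
      have hp : IsPGroup 11 (Subgroup.zpowers a) :=
        IsPGroup.of_card (n := 1) (by rw [Nat.card_zpowers, ha]; norm_num)
      obtain ⟨P, hPle⟩ := hp.exists_le_sylow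
      refine ⟨⟨P, ⟨a, hPle (Subgroup.mem_zpowers a)⟩, fun h => ?_⟩, Subtype.ext rfl⟩
      have : a = 1 := congrArg Subtype.val h
      rw [this, orderOf_one] at ha
      omega
  haveI := Fintype.ofFinite (Sylow 11 N)
  rw [← Nat.card_eq_of_bijective f hbij, Nat.card_sigma]
  have hfib : ∀ P : Sylow 11 N, Nat.card {a : P.1 // a ≠ 1} = 10 := fun P => by
    have := Fintype.ofFinite P.1
    rw [Nat.card_eq_fintype_card, Fintype.card_subtype_compl, Fintype.card_subtype_eq,
      ← Nat.card_eq_fintype_card, show Nat.card P.1 = 11 from hP P]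
  simp only [hfib, Finset.sum_const, Finset.card_univ, smul_eq_mul, Nat.card_eq_fintype_card]
  rw [Nat.mul_comm]

variable {C : Type*} [Group C] [Finite C]

/-- The criterion. -/
theorem center_and_simple (x : C) (L : Subgroup C) (hC : Nat.card C = 2694384000)
    (hL : Nat.card L = 378000) (hx : orderOf x = 3) (hxC : ∀ c : C, c * x = x * c) (hxL : x ∈ L)
    (hLsimple : ∀ M : Subgroup C, M ≤ L → x ∈ M → (∀ l ∈ L, ∀ m ∈ M, l * m * l⁻¹ ∈ M) →
      M = Subgroup.zpowers x ∨ M = L)
    (hcore : ∀ N : Subgroup C, N.Normal → N ≤ L → N ≤ Subgroup.zpowers x)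
    (hnc : ∃ a ∈ L, ∃ b ∈ L, a * b ≠ b * a)
    (hsub : ∀ S : Set (C ⧸ L), (∀ l ∈ L, ∀ z ∈ S, l • z ∈ S) →
      ∃ e : Fin 5 → Bool, Nat.card S = subSum e ∧
        ((QuotientGroup.mk 1 : C ⧸ L) ∈ S → e 0 = true)) :
    Nat.card (Subgroup.center C) = 3 ∧ IsSimpleGroup (C ⧸ Subgroup.center C) ∧
      Nat.card (C ⧸ Subgroup.center C) = 898128000 := by
  classical
  set Z := Subgroup.zpowers x with hZdef
  have hZ : Nat.card Z = 3 := by rw [hZdef, Nat.card_zpowers, hx]
  have hZL : Z ≤ L := Subgroup.zpowers_le.2 hxL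
  have hZcen : ∀ z ∈ Z, ∀ c : C, c * z = z * c := by
    rintro z ⟨n, rfl⟩ c
    exact ((show Commute c x from hxC c).zpow_right n).eq
  have hidx : L.index = 7128 := by
    have := L.card_mul_index
    rw [hL, hC] at this
    omega
  -- maximality
  have hmax : ∀ M : Subgroup C, L ≤ M → M = L ∨ M = ⊤ := by
    intro M hM
    set S : Set (C ⧸ L) := (fun m : C => (QuotientGroup.mk m : C ⧸ L)) '' (M : Set C)
    obtain ⟨e, he, he0⟩ := hsub S (by
      rintro l hl _ ⟨m, hm, rfl⟩
      exact ⟨l * m, M.mul_mem (hM hl) hm, rfl⟩)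
    have hS : Nat.card S = L.relIndex M := by
      rw [Subgroup.relIndex, Subgroup.index]
      symm
      refine Nat.card_eq_of_bijective (fun q : M ⧸ L.subgroupOf M =>
        Quotient.liftOn' q (fun m => (⟨QuotientGroup.mk (m : C), m, m.2, rfl⟩ : S)) ?_) ⟨?_, ?_⟩
      · intro a b h
        rw [QuotientGroup.leftRel_apply, Subgroup.mem_subgroupOf] at h
        exact Subtype.ext (QuotientGroup.eq.2 (by simpa using h))
      · intro a b h
        induction a using QuotientGroup.induction_on with
        | _ a =>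
          induction b using QuotientGroup.induction_on with
          | _ b =>
            have h1 : (QuotientGroup.mk (a : C) : C ⧸ L) = QuotientGroup.mk (b : C) :=
              congrArg Subtype.val h
            rw [QuotientGroup.eq] at h1 ⊢
            rw [Subgroup.mem_subgroupOf]
            simpa using h1
      · rintro ⟨_, m, hm, rfl⟩
        exact ⟨QuotientGroup.mk ⟨m, hm⟩, rfl⟩
    have hd : subSum e ∣ 7128 := by
      rw [← he, hS, ← hidx, ← Subgroup.relIndex_mul_index hM]
      exact dvd_mul_right _ _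
    rcases subSum_dvd e (he0 ⟨1, M.one_mem, rfl⟩) hd with h | h
    · exact Or.inl (le_antisymm (Subgroup.relIndex_eq_one.1 (by rw [← hS, he, h])) hM)
    · refine Or.inr (Subgroup.index_eq_one.1 ?_)
      have h2 := Subgroup.relIndex_mul_index hM
      rw [← hS, he, h, hidx] at h2
      exact Nat.eq_of_mul_eq_mul_left (by norm_num : 0 < 7128) (by rw [h2, Nat.mul_one])
  -- normal subgroups above `Z`
  have hnorm : ∀ N : Subgroup C, N.Normal → Z ≤ N → N = Z ∨ N = ⊤ := by
    intro N hN hZN
    rcases hmax (L ⊔ N) le_sup_left with h | h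
    · exact Or.inl (le_antisymm (hcore N hN (h ▸ le_sup_right)) hZN)
    rcases hLsimple (N ⊓ L) inf_le_right ⟨hZN (Subgroup.mem_zpowers x), hxL⟩ (fun l hl m hm =>
      ⟨hN.conj_mem m hm.1 l, L.mul_mem (L.mul_mem hl hm.2) (L.inv_mem hl)⟩) with h2 | h2
    · exfalso
      have hrel : N.relIndex L = N.index := by
        rw [← Subgroup.relIndex_sup_right L N, h, Subgroup.relIndex_top_right]
      have h3 : Nat.card (N ⊓ L : Subgroup C) * N.relIndex L = Nat.card L := by
        rw [← Subgroup.inf_relIndex_right, Subgroup.relIndex,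
          ← Nat.card_congr (Subgroup.subgroupOfEquivOfLe (inf_le_right : N ⊓ L ≤ L)).toEquiv]
        exact Subgroup.card_mul_index _
      rw [h2, hZ, hrel, hL] at h3
      have h4 := N.card_mul_index
      have hNi : N.index = 126000 := by omega
      rw [hNi, hC] at h4
      have hNc : Nat.card N = 21384 := by omega
      obtain ⟨n, hn0, hn, hcard⟩ := card_eleven hNc
      let A : Set (C ⧸ L) := (fun a : C => (QuotientGroup.mk a : C ⧸ L)) '' {a | a ∈ N ∧ orderOf a = 11}
      obtain ⟨e, he, -⟩ := hsub A (by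
        rintro l hl _ ⟨a, ⟨ha, hao⟩, rfl⟩
        refine ⟨l * a * l⁻¹, ⟨hN.conj_mem a ha l, ?_⟩, ?_⟩
        · rw [← hao]
          exact MulEquiv.orderOf_eq (MulAut.conj l) a
        · show (QuotientGroup.mk (l * a * l⁻¹) : C ⧸ L) = QuotientGroup.mk (l * a)
          rw [QuotientGroup.eq]
          simpa [mul_assoc] using hl)
      have hA : Nat.card A = 10 * n := by
        rw [← hcard]
        symm
        refine Nat.card_eq_of_bijective
          (fun a : {a : N // orderOf a = 11} => (⟨QuotientGroup.mk (a.1 : C), (a.1 : C),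
            ⟨a.1.2, by rw [Subgroup.orderOf_coe]; exact a.2⟩, rfl⟩ : A)) ⟨?_, ?_⟩
        · rintro ⟨a, ha⟩ ⟨b, hb⟩ h
          have h1 : (QuotientGroup.mk (a : C) : C ⧸ L) = QuotientGroup.mk (b : C) :=
            congrArg Subtype.val h
          rw [QuotientGroup.eq] at h1
          have h6 : (a : C)⁻¹ * b ∈ Z := by
            rw [← h2]; exact ⟨N.mul_mem (N.inv_mem a.2) b.2, h1⟩
          have h7 : ((a : C)⁻¹ * b) ^ 3 = 1 :=
            congrArg Subtype.val (show (⟨_, h6⟩ : Z) ^ 3 = 1 by rw [← hZ, pow_card_eq_one'])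
          have hcomm : Commute (a : C) ((a : C)⁻¹ * b) := hZcen _ h6 a
          have ha' : (a : C) ^ 11 = 1 := by
            rw [show (11 : Nat) = orderOf (a : C) by rw [Subgroup.orderOf_coe, ha], pow_orderOf_eq_one]
          have hb' : (b : C) ^ 11 = 1 := by
            rw [show (11 : Nat) = orderOf (b : C) by rw [Subgroup.orderOf_coe, hb], pow_orderOf_eq_one]
          have h9 : ((a : C)⁻¹ * b) ^ 11 = 1 := by
            have := hcomm.mul_pow 11
            rwa [mul_inv_cancel_left, hb', ha', one_mul, eq_comm] at this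
          have h10 : (a : C)⁻¹ * b = 1 := by
            rw [← pow_one ((a : C)⁻¹ * b), show 1 = Nat.gcd 3 11 from rfl, pow_gcd_eq_one.2 ⟨h7, h9⟩]
          exact Subtype.ext (Subtype.ext (inv_mul_eq_one.1 h10))
        · rintro ⟨_, a, ⟨ha, hao⟩, rfl⟩
          exact ⟨⟨⟨a, ha⟩, by rw [← Subgroup.orderOf_coe]; exact hao⟩, rfl⟩
      rw [hA] at he
      have := subSum_eleven e (by omega) (by rw [← he, Nat.mul_div_cancel_left _ (by norm_num)]; exact hn)
      omega
    · refine Or.inr ?_
      have hLN : L ≤ N := h2 ▸ inf_le_left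
      rwa [sup_eq_right.2 hLN] at h
  have hcen : Subgroup.center C = Z := by
    rcases hnorm (Subgroup.center C) inferInstance
        (Subgroup.zpowers_le.2 (Subgroup.mem_center_iff.2 hxC)) with h | h
    · exact h
    · obtain ⟨a, -, b, -, hab⟩ := hnc
      exact absurd (Subgroup.mem_center_iff.1 (h ▸ Subgroup.mem_top a) b).symm hab
  have hq : Nat.card (C ⧸ Subgroup.center C) = 898128000 := by
    have := Subgroup.card_eq_card_quotient_mul_card_subgroup (Subgroup.center C)
    rw [hC, hcen, hZ] at this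
    rw [hcen]
    omega
  refine ⟨by rw [hcen, hZ], ?_, hq⟩
  have : Nontrivial (C ⧸ Subgroup.center C) :=
    Finite.one_lt_card_iff_nontrivial.1 (by rw [hq]; norm_num)
  refine ⟨fun M hM => ?_⟩
  have hle : Subgroup.center C ≤ M.comap (QuotientGroup.mk' (Subgroup.center C)) := fun z hz => by
    rw [Subgroup.mem_comap, show QuotientGroup.mk' (Subgroup.center C) z = 1 from
      (QuotientGroup.eq_one_iff z).2 hz]
    exact M.one_mem
  rw [← Subgroup.map_comap_eq_self_of_surjective (QuotientGroup.mk'_surjective _) M]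
  rcases hnorm (M.comap (QuotientGroup.mk' (Subgroup.center C))) (hM.comap _) (hcen ▸ hle) with h | h
  · left
    rw [h, ← hcen, QuotientGroup.map_mk'_self]
  · right
    rw [h, Subgroup.map_top_of_surjective _ (QuotientGroup.mk'_surjective _)]

end Cfsg.Agent.LyThree
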