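import Cfsg.Agent.LyThree.Locate
import Cfsg.Agent.LyThree.Abstract
import Cfsg.Agent.DCoset.FixCount
import Cfsg.Prelude.Def_Sporadic

/-!
The centraliser of the element of order three in the Lyons group: the fixed cosets, their orbits,
and the triple cover.
-/

set_option autoImplicit false
set_option maxRecDepth 100000

namespace Cfsg.Agent.LyThree

open Cfsg.Agent.DCoset Cfsg.Agent.CosetCert

/-- The base coset. -/
noncomputable def base0 : X := QuotientGroup.mk 1

/-- The centraliser in the group. -/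
noncomputable abbrev CP : Subgroup LyLocal.P := Subgroup.centralizer ({iota xQ} : Set LyLocal.P)

/-- What is used about a representative coset. -/
def Rep (z : X) (n c : Nat) : Prop :=
  Nat.card (St z) = n ∧ Nat.card {s : LyMat.Q // s ∈ St z ∧ IsConj xQ s} = c ∧
    ∃ q : LyMat.Q, q⁻¹ * xQ * q ∈ St z ∧ (∃ d : CP, (d : LyLocal.P) • base0 = iota q • z) ∧
      ∀ y ∈ St z, IsConj xQ y → ∃ s ∈ St z, s * (q⁻¹ * xQ * q) * s⁻¹ = y

theorem St_base : St base0 = ⊤ := by
  refine eq_top_iff.2 fun q _ => ?_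
  rw [mem_St]
  show (QuotientGroup.mk (iota q * 1) : X) = QuotientGroup.mk 1
  rw [QuotientGroup.eq]
  simpa using iota.range.inv_mem ⟨q, rfl⟩

theorem rep_base : Rep base0 5859000000 15500 := by
  refine ⟨by rw [St_base, Subgroup.card_top, q_card], ?_, 1, by simp [St_base], ⟨1, by simp⟩, ?_⟩
  · rw [← Nat.card_fin 15500]
    symm
    refine Nat.card_eq_of_bijective (fun i : Fin 15500 =>
      (⟨Ly.model.el (cls.word i), by rw [St_base]; trivial,
        xQ_eq ▸ Cls.isConj cls_ok _ (show (i : Nat) < cls.n from i.2)⟩ :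
        {s : LyMat.Q // s ∈ St base0 ∧ IsConj xQ s})) ⟨fun a b h => ?_, ?_⟩
    · exact Fin.ext (Cls.inj cls_ok (show (a : Nat) < cls.n from a.2) (show (b : Nat) < cls.n from b.2)
        (congrArg Subtype.val h :))
    · rintro ⟨y, -, hy⟩
      obtain ⟨i, hi, e⟩ := cls_complete.2 y hy
      exact ⟨⟨i, cls_n ▸ hi⟩, Subtype.ext e⟩
  · intro y _ hy
    obtain ⟨s, hs⟩ := isConj_iff.1 hy
    exact ⟨s, by rw [St_base]; trivial, by simpa using hs⟩

variable [IsSimpleGroup LyLocal.P]

theorem rep_node {D : Node} (V : Node.Ok D Ly.model.toTab cls)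
    (he : ∀ i, i < D.n0 →
      LyLocal.sameB (D.g ++ pLets (D.T.gen i)) (pLets (D.img i) ++ D.g) = true) {n c : Nat}
    (hx : LyLocal.sameB (D.g ++ pLets (cls.word (D.R.ks 0))) (pLets (cls.word D.cy) ++ D.g) = true)
    (hn : ((List.range Ly.tab.k).map D.T.size).prod = n) (hs : Nat.card (St (ptN D)) = n)
    (hc : D.R.c = c) : Rep (ptN D) n c := by
  obtain ⟨hcount, hmem, htr⟩ := node_part V he hn hs
  obtain ⟨hlt, hconj⟩ := member_conj V
  refine ⟨hs, hcount.trans hc, ?_⟩
  obtain ⟨r, hr⟩ := isConj_iff.1 hconj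
  have hq : r * xQ * r⁻¹ = Ly.model.el (cls.word (D.R.ks 0)) := hr
  refine ⟨r⁻¹, by rw [inv_inv, hq]; exact hmem, ?_, by rw [inv_inv, hq]; exact htr⟩
  have hw : ∀ i, i < cls.n → Ly.model.toTab.okWord (cls.word i) = true := fun i hi => by
    have h := cls_ok.conj_ok i hi
    simp only [Cls.checkConj, force_eq, gate_eq, Bool.and_eq_true] at h
    exact h.1
  have e := LyLocal.eq_of_same hx
    (all_lt fun x hx => (List.mem_append.1 hx).elim (V.g_lt x) (pLets_lt (hw _ hlt) x))
    (all_lt fun x hx => (List.mem_append.1 hx).elim (pLets_lt (hw _ V.cy_lt) x) (V.g_lt x))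
  rw [elW_append, elW_append, ← iota_el (hw _ hlt), ← iota_el (hw _ V.cy_lt), ← hq] at e
  obtain ⟨d, hd⟩ := isConj_iff.1 (show IsConj xQ (Ly.model.el (cls.word D.cy)) from
    xQ_eq ▸ Cls.isConj cls_ok _ V.cy_lt)
  rw [← hd] at e
  simp only [map_mul, map_inv] at e
  refine ⟨⟨iota r⁻¹ * (LyLocal.elW D.g)⁻¹ * iota d, ?_⟩, ?_⟩
  · rw [Subgroup.mem_centralizer_singleton_iff, map_inv]
    calc (iota r)⁻¹ * (LyLocal.elW D.g)⁻¹ * iota d * iota xQ
        = (iota r)⁻¹ * (LyLocal.elW D.g)⁻¹ *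
            (iota d * iota xQ * (iota d)⁻¹ * LyLocal.elW D.g) * (LyLocal.elW D.g)⁻¹ * iota d := by group
      _ = (iota r)⁻¹ * (LyLocal.elW D.g)⁻¹ *
            (LyLocal.elW D.g * (iota r * iota xQ * (iota r)⁻¹)) * (LyLocal.elW D.g)⁻¹ * iota d := by rw [e]
      _ = iota xQ * ((iota r)⁻¹ * (LyLocal.elW D.g)⁻¹ * iota d) := by group
  · show (QuotientGroup.mk (iota r⁻¹ * (LyLocal.elW D.g)⁻¹ * iota d * 1) : X) =
      QuotientGroup.mk (iota r⁻¹ * (LyLocal.elW D.g)⁻¹)
    rw [QuotientGroup.eq, mul_one]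
    exact ⟨d⁻¹, by rw [map_inv]; group⟩

/-- The representatives. -/
noncomputable def Y (m : Fin 5) : X := ![base0, ptN node1, ptN node2, ptN node3, ptN node4] m

/-- The orders of their stabilisers. -/
def nn (m : Fin 5) : Nat := ![5859000000, 300000, 6048, 2880, 1008] m

/-- The numbers of class members in them. -/
def cc (m : Fin 5) : Nat := ![15500, 200, 56, 20, 2] m

theorem nn_inj : Function.Injective nn := by decide +kernel

theorem lens_eq : ∀ m : Fin 5, lens m * nn m = 378000 * cc m := by decide +kernel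

theorem nn_pos : ∀ m : Fin 5, 0 < nn m := by decide +kernel

theorem rep_all (O : Orbits) : (∀ m, Rep (Y m) (nn m) (cc m)) ∧ ∀ z : X, ∃ m q, z = iota q • Y m := by
  obtain ⟨s1, q1, e1⟩ := locate1 O
  obtain ⟨s2, q2, e2⟩ := locate2 O
  obtain ⟨s3, q3, e3⟩ := locate3 O
  obtain ⟨s4, q4, e4⟩ := locate4 O
  refine ⟨fun m => ?_, fun z => ?_⟩
  · fin_cases m
    · exact rep_base
    · exact rep_node node1_ok n1_eqs n1_xeq n1_prod s1 rfl
    · exact rep_node node2_ok n2_eqs n2_xeq n2_prod s2 rfl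
    · exact rep_node node3_ok n3_eqs n3_xeq n3_prod s3 rfl
    · exact rep_node node4_ok n4_eqs n4_xeq n4_prod s4 rfl
  · obtain ⟨m, q, rfl⟩ := O.cover z
    have key : ∀ (p : LyMat.Q), Y m = iota p • O.pt m → ∃ m' q', iota q • O.pt m = iota q' • Y m' :=
      fun p hp => ⟨m, q * p⁻¹, by rw [hp, ← mul_smul, ← map_mul, inv_mul_cancel_right]⟩
    fin_cases m
    · exact key 1 (by rw [map_one, one_smul]; exact O.zero.symm)
    · exact key q1 e1
    · exact key q2 e2
    · exact key q3 e3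
    · exact key q4 e4

/-- The Lyons group's element of order three. -/
theorem centralizer_facts (O : Orbits) :
    Nat.card (Subgroup.center CP) = 3 ∧ IsSimpleGroup (CP ⧸ Subgroup.center CP) ∧
      Nat.card (CP ⧸ Subgroup.center CP) = 898128000 := by
  classical
  obtain ⟨hR, hcov⟩ := rep_all O
  choose hn hc q hqmem hd htr using hR
  choose d hd using hd
  have : Finite LyMat.Q := qFinite
  letI actQ : MulAction LyMat.Q X := MulAction.compHom X iota
  have hXfin : Finite X := by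
    refine Finite.of_surjective (fun p : Fin 5 × LyMat.Q => iota p.2 • Y p.1) fun z => ?_
    obtain ⟨m, p, e⟩ := hcov z
    exact ⟨(m, p), e.symm⟩
  have hfixSt : ∀ z : X, iota xQ • z = z ↔ xQ ∈ St z := fun z => Iff.rfl
  let z0 : Fin 5 → X := fun m => iota (q m) • Y m
  have hz0fix : ∀ m, iota xQ • z0 m = z0 m := fun m => by
    rw [hfixSt]; exact (St_smul _ _ _).2 (hqmem m)
  have hlabel : ∀ m m' p p', iota p • Y m = iota p' • Y m' → m = m' := fun m m' p p' h => by
    apply nn_inj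
    rw [← hn m, ← hn m', ← card_St_smul p (Y m), h, card_St_smul]
  have hLorb : ∀ m p, iota xQ • (iota p • Y m) = iota p • Y m →
      ∃ l ∈ LQ, iota p • Y m = iota l • z0 m := by
    intro m p h
    rw [hfixSt, St_smul] at h
    obtain ⟨s, hs, e⟩ := htr m _ h (isConj_iff.2 ⟨p⁻¹, by rw [inv_inv]⟩)
    refine ⟨p * s * (q m)⁻¹, ?_, ?_⟩
    · rw [LQ, Subgroup.mem_centralizer_singleton_iff]
      calc p * s * (q m)⁻¹ * xQ = p * (s * ((q m)⁻¹ * xQ * q m) * s⁻¹) * s * (q m)⁻¹ := by group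
        _ = p * (p⁻¹ * xQ * p) * s * (q m)⁻¹ := by rw [e]
        _ = xQ * (p * s * (q m)⁻¹) := by group
    · show iota p • Y m = iota (p * s * (q m)⁻¹) • iota (q m) • Y m
      rw [← mul_smul, ← map_mul, inv_mul_cancel_right, map_mul, mul_smul, mem_St.1 hs]
  -- orbit lengths
  have hlen : ∀ m, Nat.card {z : X // z ∈ MulAction.orbit LyMat.Q (Y m) ∧ iota xQ • z = z} = lens m := by
    intro m
    have h := FixCount.card_fixed_mul (Q := LyMat.Q) (Y m) xQ
    change Nat.card {z : X // z ∈ MulAction.orbit LyMat.Q (Y m) ∧ iota xQ • z = z} * Nat.card (St (Y m)) =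
      Nat.card LQ * Nat.card {s : LyMat.Q // s ∈ St (Y m) ∧ IsConj xQ s} at h
    rw [hn, hc, card_LQ, ← lens_eq] at h
    exact Nat.eq_of_mul_eq_mul_right (nn_pos m) h
  -- invariant sets of fixed points
  have hsum : ∀ T : Set X, (∀ z ∈ T, iota xQ • z = z) → (∀ l ∈ LQ, ∀ z ∈ T, iota l • z ∈ T) →
      Nat.card T = subSum (fun m => decide (z0 m ∈ T)) := by
    intro T hT hTL
    have hfib : ∀ m, Nat.card {z : X // z ∈ MulAction.orbit LyMat.Q (Y m) ∧ z ∈ T} =
        if z0 m ∈ T then lens m else 0 := by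
      intro m
      split_ifs with h
      · rw [← hlen m]
        refine Nat.card_congr (Equiv.subtypeEquivRight fun z => ⟨fun hz => ⟨hz.1, hT z hz.2⟩, ?_⟩)
        rintro ⟨⟨p, rfl⟩, hfix⟩
        refine ⟨MulAction.mem_orbit _ _, ?_⟩
        obtain ⟨l, hl, e⟩ := hLorb m p hfix
        show iota p • Y m ∈ T
        rw [e]
        exact hTL l hl _ h
      · have : IsEmpty {z : X // z ∈ MulAction.orbit LyMat.Q (Y m) ∧ z ∈ T} := by
          refine ⟨fun ⟨z, ⟨p, hp⟩, hzT⟩ => h ?_⟩
          have hp : iota p • Y m = z := hp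
          obtain ⟨l, hl, e⟩ := hLorb m p (hp ▸ hT z hzT)
          have e2 := hTL l⁻¹ (inv_mem hl) z hzT
          rwa [← hp, e, map_inv, inv_smul_smul] at e2
        exact Nat.card_of_isEmpty
    have he : T ≃ Σ m : Fin 5, {z : X // z ∈ MulAction.orbit LyMat.Q (Y m) ∧ z ∈ T} := by
      refine Equiv.symm (Equiv.ofBijective (fun p => ⟨p.2.1, p.2.2.2⟩) ⟨?_, ?_⟩)
      · rintro ⟨m, z, hz, hzT⟩ ⟨m', z', hz', hzT'⟩ h
        obtain rfl : z = z' := congrArg Subtype.val h
        obtain ⟨p, hp⟩ := hz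
        obtain ⟨p', hp'⟩ := hz'
        obtain rfl : m = m' := hlabel m m' p p' (hp.trans hp'.symm)
        rfl
      · rintro ⟨z, hz⟩
        obtain ⟨m, p, e⟩ := hcov z
        exact ⟨⟨m, z, ⟨p, e.symm⟩, hz⟩, rfl⟩
    rw [Nat.card_congr he, Nat.card_sigma, subSum]
    refine Finset.sum_congr rfl fun m _ => ?_
    rw [hfib]
    simp only [decide_eq_true_eq]
  -- the centraliser acting
  set xC : CP := ⟨iota xQ, Subgroup.mem_centralizer_singleton_iff.2 rfl⟩
  let L : Subgroup CP := MulAction.stabilizer CP base0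
  have hiC : ∀ l ∈ LQ, iota l ∈ CP := fun l hl => by
    rw [Subgroup.mem_centralizer_singleton_iff, ← map_mul, ← map_mul,
      Subgroup.mem_centralizer_singleton_iff.1 hl]
  have hbase : ∀ l : LyMat.Q, iota l • base0 = base0 := fun l => by
    have : l ∈ St base0 := by rw [St_base]; trivial
    exact this
  have hLmem : ∀ c : CP, c ∈ L ↔ ∃ l ∈ LQ, iota l = c := by
    intro c
    constructor
    · intro h
      have h : (QuotientGroup.mk ((c : LyLocal.P) * 1) : X) = QuotientGroup.mk 1 := h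
      rw [QuotientGroup.eq, mul_one, mul_one] at h
      obtain ⟨l, hl⟩ := iota.range.inv_mem h
      rw [inv_inv] at hl
      refine ⟨l, ?_, hl⟩
      rw [LQ, Subgroup.mem_centralizer_singleton_iff]
      apply iota_injective
      rw [map_mul, map_mul, hl]
      exact Subgroup.mem_centralizer_singleton_iff.1 c.2
    · rintro ⟨l, -, hl⟩
      show (c : LyLocal.P) • base0 = base0
      rw [← hl, hbase]
  have hL : Nat.card L = 378000 := by
    rw [← card_LQ]
    symm
    refine Nat.card_eq_of_bijective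
      (fun l : LQ => (⟨⟨iota l, hiC l l.2⟩, (hLmem _).2 ⟨l, l.2, rfl⟩⟩ : L)) ⟨?_, ?_⟩
    · intro a b h
      exact Subtype.ext (iota_injective (congrArg (fun z : L => ((z : CP) : LyLocal.P)) h))
    · rintro ⟨c, hc⟩
      obtain ⟨l, hl, e⟩ := (hLmem c).1 hc
      exact ⟨⟨l, hl⟩, Subtype.ext (Subtype.ext e)⟩
  have hxsm : ∀ c : CP, iota xQ • (c • base0 : X) = c • base0 := fun c => by
    show iota xQ • (c : LyLocal.P) • base0 = (c : LyLocal.P) • base0
    rw [← mul_smul, ← Subgroup.mem_centralizer_singleton_iff.1 c.2, mul_smul, hbase]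
  have horb : MulAction.orbit CP base0 = {z : X | iota xQ • z = z} := by
    refine Set.Subset.antisymm (by rintro _ ⟨c, rfl⟩; exact hxsm c) fun z hz => ?_
    obtain ⟨m, p, rfl⟩ := hcov z
    obtain ⟨l, hl, e⟩ := hLorb m p hz
    refine ⟨⟨iota l, hiC l hl⟩ * d m, ?_⟩
    show (iota l * (d m : LyLocal.P)) • base0 = _
    rw [e, mul_smul, hd m]
  have hfixcard : Nat.card {z : X | iota xQ • z = z} = 7128 := by
    refine (hsum _ (fun z hz => hz) (fun l hl z hz => by
      show iota xQ • iota l • z = iota l • z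
      rw [← mul_smul, ← map_mul, ← Subgroup.mem_centralizer_singleton_iff.1 hl, map_mul, mul_smul]
      exact congrArg _ hz)).trans ?_
    refine (congrArg subSum (funext fun m => decide_eq_true ?_ :
      _ = fun _ : Fin 5 => true)).trans (by decide +kernel)
    exact hz0fix m
  have hC : Nat.card CP = 2694384000 := by
    rw [Nat.card_congr (MulAction.orbitProdStabilizerEquivGroup CP base0).symm, Nat.card_prod, horb,
      hfixcard, show Nat.card (MulAction.stabilizer CP base0) = 378000 from hL]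
  haveI : Finite CP := Nat.finite_of_card_ne_zero (by rw [hC]; norm_num)
  have hxord : orderOf xC = 3 := by
    rw [← Subgroup.orderOf_coe, show (xC : LyLocal.P) = iota xQ from rfl,
      orderOf_injective iota iota_injective, orderOf_xQ]
  have hxC : ∀ c : CP, c * xC = xC * c := fun c =>
    Subtype.ext (Subgroup.mem_centralizer_singleton_iff.1 c.2)
  have hxL : xC ∈ L := (hLmem _).2 ⟨xQ, zpowers_le_LQ (Subgroup.mem_zpowers _), rfl⟩
  have hLsimple : ∀ M : Subgroup CP, M ≤ L → xC ∈ M → (∀ l ∈ L, ∀ m ∈ M, l * m * l⁻¹ ∈ M) →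
      M = Subgroup.zpowers xC ∨ M = L := by
    intro M hM hxM hMn
    set K : Subgroup LyMat.Q := (M.map CP.subtype).comap iota
    have hK : ∀ k, k ∈ K ↔ ∃ c ∈ M, (c : LyLocal.P) = iota k := fun k => by
      simp only [K, Subgroup.mem_comap, Subgroup.mem_map, Subgroup.coe_subtype]
    have hKle : K ≤ LQ := by
      intro k hk
      obtain ⟨c, hc, e⟩ := (hK k).1 hk
      obtain ⟨l, hl, e'⟩ := (hLmem c).1 (hM hc)
      rwa [← iota_injective (e'.trans e)]
    have hKn : ∀ l ∈ LQ, ∀ k ∈ K, l * k * l⁻¹ ∈ K := by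
      intro l hl k hk
      obtain ⟨c, hc, e⟩ := (hK k).1 hk
      exact (hK _).2 ⟨_, hMn _ ((hLmem ⟨iota l, hiC l hl⟩).2 ⟨l, hl, rfl⟩) c hc, by simp [e]⟩
    rcases LQ_simple K hKle ((hK _).2 ⟨xC, hxM, rfl⟩) hKn with h | h
    · refine Or.inl (le_antisymm (fun c hc => ?_) (Subgroup.zpowers_le.2 hxM))
      obtain ⟨l, -, e⟩ := (hLmem c).1 (hM hc)
      have hlK : l ∈ K := (hK l).2 ⟨c, hc, e.symm⟩
      rw [h] at hlK
      obtain ⟨i, rfl⟩ := hlK
      refine ⟨i, Subtype.ext ?_⟩
      rw [← e, Subgroup.coe_zpow, map_zpow]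
    · refine Or.inr (le_antisymm hM fun c hc => ?_)
      obtain ⟨l, hl, e⟩ := (hLmem c).1 hc
      rw [← h] at hl
      obtain ⟨c', hc', e'⟩ := (hK l).1 hl
      rwa [← show c' = c from Subtype.ext (e'.trans e)]
  have hcore : ∀ N : Subgroup CP, N.Normal → N ≤ L → N ≤ Subgroup.zpowers xC := by
    intro N hN hNL
    haveI := hN
    haveI : (Subgroup.zpowers xC).Normal := ⟨fun z hz c => by
      obtain ⟨i, rfl⟩ := hz
      rw [((show Commute c xC from hxC c).zpow_right i).eq, mul_inv_cancel_right]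
      exact ⟨i, rfl⟩⟩
    rcases hLsimple (N ⊔ Subgroup.zpowers xC) (sup_le hNL (Subgroup.zpowers_le.2 hxL))
      (Subgroup.mem_sup_right (Subgroup.mem_zpowers _))
      (fun l _ m hm => Subgroup.Normal.conj_mem inferInstance m hm l) with h | h
    · exact le_sup_left.trans h.le
    · exfalso
      have hLn : L.Normal := h ▸ inferInstance
      have hall : ∀ l ∈ LQ, iota l • z0 1 = z0 1 := by
        intro l hl
        have hlL : (⟨iota l, hiC l hl⟩ : CP) ∈ L := (hLmem _).2 ⟨l, hl, rfl⟩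
        have h2 := hLn.conj_mem _ hlL (d 1)⁻¹
        rw [inv_inv] at h2
        have h3 : ((d 1 : LyLocal.P)⁻¹ * iota l * (d 1 : LyLocal.P)) • base0 = base0 := h2
        rw [mul_smul, mul_smul, inv_smul_eq_iff, hd 1] at h3
        exact h3
      have hle : Nat.card {z : X // z ∈ MulAction.orbit LyMat.Q (Y 1) ∧ iota xQ • z = z} ≤ 1 := by
        rw [Finite.card_le_one_iff_subsingleton]
        refine ⟨fun a b => Subtype.ext ?_⟩
        obtain ⟨z, ⟨p, rfl⟩, hz⟩ := a
        obtain ⟨z', ⟨p', rfl⟩, hz'⟩ := b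
        obtain ⟨l, hl, e⟩ := hLorb 1 p hz
        obtain ⟨l', hl', e'⟩ := hLorb 1 p' hz'
        show iota p • Y 1 = iota p' • Y 1
        rw [e, e', hall l hl, hall l' hl']
      rw [hlen 1] at hle
      exact absurd hle (by decide +kernel)
  have hnc : ∃ a ∈ L, ∃ b ∈ L, a * b ≠ b * a := by
    obtain ⟨a, ha, b, hb, hab⟩ := LQ_noncomm
    refine ⟨⟨iota a, hiC a ha⟩, (hLmem _).2 ⟨a, ha, rfl⟩, ⟨iota b, hiC b hb⟩,
      (hLmem _).2 ⟨b, hb, rfl⟩, fun h => hab (iota_injective ?_)⟩
    rw [map_mul, map_mul]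
    exact congrArg Subtype.val h
  refine center_and_simple xC L hC hL hxord hxC hxL hLsimple hcore hnc ?_
  intro S hS
  let F : CP ⧸ L → X := MulAction.ofQuotientStabilizer CP base0
  have hFi : Function.Injective F := MulAction.injective_ofQuotientStabilizer CP base0
  refine ⟨fun m => decide (z0 m ∈ F '' S), ?_, fun h1 => decide_eq_true ?_⟩
  · rw [← hsum (F '' S) ?_ ?_, Nat.card_image_of_injective hFi]
    · rintro _ ⟨c, -, rfl⟩
      induction c using QuotientGroup.induction_on with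
      | _ c => exact hxsm c
    · rintro l hl _ ⟨c, hc, rfl⟩
      refine ⟨(⟨iota l, hiC l hl⟩ : CP) • c, hS _ ((hLmem _).2 ⟨l, hl, rfl⟩) c hc, ?_⟩
      induction c using QuotientGroup.induction_on with
      | _ c =>
        show ((⟨iota l, hiC l hl⟩ : CP) * c) • base0 = iota l • (c • base0)
        rw [mul_smul]
        rfl
  · refine ⟨QuotientGroup.mk 1, h1, ?_⟩
    show (1 : CP) • base0 = iota (q 0) • base0
    rw [one_smul, hbase]

/-- A Lyons group with an element of order three whose centraliser is a triple cover of `McL`. -/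
theorem witness (hLy : Cfsg.IsLy LyLocal.P) (O : Orbits) :
    ∃ (G : Type) (_ : Group G) (_ : Finite G), Cfsg.IsLy G ∧ ∃ x : G, orderOf x = 3 ∧
      Nat.card (Subgroup.center (Subgroup.centralizer ({x} : Set G))) = 3 ∧
      Cfsg.IsMcL ((Subgroup.centralizer ({x} : Set G)) ⧸
        Subgroup.center (Subgroup.centralizer ({x} : Set G))) := by
  refine ⟨LyLocal.P, inferInstance, Nat.finite_of_card_ne_zero (by rw [hLy.2]; norm_num), hLy,
    iota xQ, ?_, ?_⟩
  · rw [orderOf_injective iota iota_injective, orderOf_xQ]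
  · obtain ⟨h1, h2, h3⟩ := centralizer_facts O
    exact ⟨h1, h2, h3⟩

end Cfsg.Agent.LyThree
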