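import Cfsg.Agent.LyThree.Main
import Cfsg.Agent.DCoset.Ly.Simple

/-!
The suborbits from a double coset certificate.
-/

set_option autoImplicit false
set_option maxRecDepth 100000

namespace Cfsg.Agent.LyThree

open Cfsg.Agent.DCoset Cfsg.Agent.LyMat

theorem iota_eq : DCoset.Ly.iota = iota :=
  PresentedGroup.ext fun i => (DCoset.Ly.iota_of i).trans (iota_of i).symm

/-- The suborbit lengths in the order of the representatives. -/
def idxList (m : Fin 5) : Nat := ![1, 19530, 968750, 2034375, 5812500] m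

theorem idxList_mul : ∀ m, idxList m * ![5859000000, 300000, 6048, 2880, 1008] m = 5859000000 := by
  decide +kernel

theorem orbits_of (D : Steps) (C : Cover)
    (hsteps : ∀ s, s < D.len → Steps.check D DCoset.Ly.rules DCoset.Ly.tab s = true)
    (hsrc : ∀ j, 1 ≤ j → j < D.nNode → D.nodeSrc j < j)
    (hV : C.Valid D DCoset.Ly.rules DCoset.Ly.tab 5859000000)
    (hsum : ((List.range C.nLive).map C.idx).sum = 8835156) (hidx : lyH.index = 8835156)
    (hlive : C.nLive = 5)
    (hmem : ∀ m : Fin 5, ∃ j, j < 5 ∧ C.idx j = idxList m ∧ (m = 0 → j = 0)) :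
    Nonempty Orbits := by
  classical
  have := qFinite
  have hF : ∀ s, s < D.len →
      D.Holds DCoset.Ly.rules (DCoset.Ly.model.toModel DCoset.Ly.iota) DCoset.Ly.iota.range DCoset.Ly.tEl s :=
    Steps.holds DCoset.Ly.sound
      (fun g _ => (⟨DCoset.Ly.qL g, rfl⟩ : DCoset.Ly.iota (DCoset.Ly.qL g) ∈ DCoset.Ly.iota.range))
      hsrc (show 0 < 3 by norm_num) hsteps
  have horb := Cover.orbit_bound (P := DCoset.Ly.model) DCoset.Ly.iota DCoset.Ly.tEl LyMat.q_card.2
    DCoset.Ly.model_gens DCoset.Ly.range_gen DCoset.Ly.sound hV hF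
  have hrange := DCoset.Ly.iota_range
  rw [iota_eq] at horb hrange
  obtain ⟨node, h0, hfin, hsurj, hle⟩ := horb
  letI : MulAction LyMat.Q X := MulAction.compHom X iota
  have horbit : ∀ i, MulAction.orbit LyMat.Q (QuotientGroup.mk (node i) : X) =
      {z : X | ∃ k, z = QuotientGroup.mk (iota k * node i)} := fun i =>
    Set.ext fun z => ⟨fun ⟨k, hk⟩ => ⟨k, hk.symm⟩, fun ⟨k, hk⟩ => ⟨k, hk.symm⟩⟩
  have hsum' : ∑ m : Fin C.nLive, C.idx m.1 = 8835156 := by
    rw [Fin.sum_univ_eq_sum_range (fun m => C.idx m) C.nLive]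
    exact hsum
  have hge := Nat.card_le_card_of_surjective
    (fun x : Σ m, {z : X // ∃ k, z = QuotientGroup.mk (iota k * node m)} => x.2.1) fun z => by
      obtain ⟨m, k, hk⟩ := hsurj z
      exact ⟨⟨m, z, k, hk⟩, rfl⟩
  rw [Nat.card_sigma, ← Subgroup.index_eq_card] at hge
  have hi : iota.range.index = 8835156 := by rw [hrange]; exact hidx
  have hsle := Finset.sum_le_sum (s := (Finset.univ : Finset (Fin C.nLive))) fun m _ => hle m
  have heq : ∀ m, Nat.card {z : X // ∃ k, z = QuotientGroup.mk (iota k * node m)} = C.idx m.1 := fun m =>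
    (Finset.sum_eq_sum_iff_of_le fun i _ => hle i).1 (le_antisymm hsle (by rw [hsum', ← hi]; convert hge)) m (Finset.mem_univ m)
  choose j hj hje hj0 using hmem
  let jj : Fin 5 → Fin C.nLive := fun m => ⟨j m, hlive ▸ hj m⟩
  have hidx' : ∀ m, 0 < idxList m := by decide +kernel
  have hlist : Function.Injective idxList := by decide +kernel
  have hjj : Function.Bijective jj := by
    refine (Nat.bijective_iff_injective_and_card jj).2 ⟨fun a b h => hlist ?_, by simp [hlive]⟩
    rw [← hje a, ← hje b, show j a = j b from congrArg Fin.val h]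
  refine ⟨⟨fun m => QuotientGroup.mk (node (jj m)), ?_, ?_, ?_⟩⟩
  · show (QuotientGroup.mk (node (jj 0)) : X) = _
    rw [h0 (jj 0) (hj0 0 rfl)]
  · intro z
    obtain ⟨i, k, hk⟩ := hsurj z
    obtain ⟨m, rfl⟩ := hjj.2 i
    exact ⟨m, k, hk⟩
  · intro m
    have h := Nat.card_congr
      (MulAction.orbitProdStabilizerEquivGroup LyMat.Q (QuotientGroup.mk (node (jj m)) : X))
    rw [Nat.card_prod, horbit, Set.coe_setOf, heq, show C.idx (jj m) = idxList m from hje m, q_card] at h
    change idxList m * Nat.card (St (QuotientGroup.mk (node (jj m)) : X)) = _ at h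
    exact Nat.eq_of_mul_eq_mul_left (hidx' m) (h.trans (idxList_mul m).symm)

end Cfsg.Agent.LyThree
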