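import Cfsg.Agent.LyThree.TSift
import Cfsg.Agent.DCoset.Sift
import Cfsg.Agent.DCoset.PermModel

/-!
A centraliser of order `378000` acting twice transitively on `126` fixed points has a simple
quotient by the element it centralises.
-/

set_option autoImplicit false

namespace Cfsg.Agent.LyThree

open Cfsg.Agent.DCoset Cfsg.Agent.CosetCert

/-- Words in the centraliser of the word `xw`: a chain, seventh roots of one that generate it, and
its action on the fixed points of `xw`. -/
structure Cent where
  xw : Nat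
  chain : QModel.Chain
  nS : Nat
  sw : Nat → Nat
  expr : Nat → Nat → List Nat
  opt : Nat → Nat
  opos : Nat → Nat
  nG : Nat
  gw : Nat → Nat
  opar : Nat → Nat
  ovia : Nat → Nat
  nA : Nat
  aw : Nat → Nat
  apar : Nat → Nat
  avia : Nat → Nat
  tw : Nat → Nat
  mv : Nat → Nat

namespace Cent

variable (D : Cent) (P : Tab)

/-- The word is spelled and commutes with `xw`. -/
noncomputable def inC (w : Nat) : Bool :=
  gate (P.okWord w) (Nat.beq (P.app (P.app P.base D.xw) w) (P.app (P.app P.base w) D.xw))

/-- A seventh root of one commuting with `xw`. -/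
noncomputable def checkS (a : Nat) : Bool :=
  force (D.sw a) fun w => gate (inC D P w)
    (Nat.beq (P.app (P.app (P.app (P.app (P.app (P.app (P.app P.base w) w) w) w) w) w) w) P.base)

/-- A generator of the chain is a product of the roots and `xw`. -/
noncomputable def checkExpr (l a : Nat) : Bool :=
  force (D.chain.gen l a) fun w => gate (inC D P w)
    (gate ((D.expr l a).all fun i => Nat.blt i (Nat.succ D.nS))
      (Nat.beq (tupL P ((D.expr l a).map fun i =>
        Bool.rec (motive := fun _ => Nat) D.xw (D.sw i) (Nat.blt i D.nS))) (P.app P.base w)))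

/-- A fixed point of `xw` is listed. -/
noncomputable def checkFix (p : Nat) : Bool :=
  Bool.rec (motive := fun _ => Bool) true
    (force (D.opos p) fun i => gate (Nat.blt i 126) (Nat.beq (D.opt i) p))
    (Nat.beq (actW P.act p D.xw) p)

/-- A listed point is a fixed point reached from an earlier one; after the first, from the second by
elements fixing the first. -/
noncomputable def checkO (N i : Nat) : Bool :=
  force (D.opt i) fun p => gate (Nat.blt p N) (gate (Nat.beq (D.opos p) i)
    (gate (Nat.beq (actW P.act p D.xw) p)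
    (gate (Bool.rec (motive := fun _ => Bool)
      (gate (Nat.blt (D.opar i) i) (gate (Nat.blt (D.ovia i) D.nG)
        (Nat.beq (actW P.act (D.opt (D.opar i)) (D.gw (D.ovia i))) p)))
      true (Nat.beq i 0))
      (Bool.rec (motive := fun _ => Bool)
        (gate (Nat.blt (D.apar i) i) (gate (Nat.ble 1 (D.apar i)) (gate (Nat.blt (D.avia i) D.nA)
          (Nat.beq (actW P.act (D.opt (D.apar i)) (D.aw (D.avia i))) p))))
        true (Nat.ble i 1)))))

/-- A generator fixing the first listed point. -/
noncomputable def checkA (a : Nat) : Bool :=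
  force (D.aw a) fun w => gate (inC D P w) (Nat.beq (actW P.act (D.opt 0) w) (D.opt 0))

/-- An element fixing two listed points: in increasing order, and moving a point unless it is a
power of `xw`. -/
noncomputable def checkT (j : Nat) : Bool :=
  force (D.tw j) fun w => gate (inC D P w) (gate (Nat.beq (actW P.act (D.opt 0) w) (D.opt 0))
    (gate (Nat.beq (actW P.act (D.opt 1) w) (D.opt 1))
      (gate (Bool.rec (motive := fun _ => Bool) true (Nat.blt (P.app P.base w) (P.app P.base (D.tw (Nat.succ j))))
          (Nat.blt (Nat.succ j) 24))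
        (Bool.rec (motive := fun _ => Bool)
          (Bool.rec (motive := fun _ => Bool)
            (Bool.rec (motive := fun _ => Bool)
              (force (D.mv j) fun i => gate (Nat.blt i 126)
                (Bool.rec (motive := fun _ => Bool) true false (Nat.beq (actW P.act (D.opt i) w) (D.opt i))))
              true (Nat.beq (P.app P.base w) (P.app (P.app P.base D.xw) D.xw)))
            true (Nat.beq (P.app P.base w) (P.app P.base D.xw)))
          true (Nat.beq (P.app P.base w) P.base)))))

/-- All conditions. -/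
structure Ok (N : Nat) : Prop where
  xw_ok : P.okWord D.xw = true
  s_ok : ∀ a, a < D.nS → checkS D P a = true
  gen_ok : ∀ l a, l < P.k → a < D.chain.nGen l → QModel.checkGen P D.chain l a = true
  pt_ok : ∀ l j, l < P.k → j < D.chain.size l → QModel.checkPt P D.chain l j = true
  prod_eq : ((List.range P.k).map D.chain.size).prod = 378000
  expr_ok : ∀ l a, l < P.k → a < D.chain.nGen l → checkExpr D P l a = true
  fix_ok : ∀ p, p < N → checkFix D P p = true
  o_ok : ∀ i, i < 126 → checkO D P N i = true
  g_ok : ∀ a, a < D.nG → inC D P (D.gw a) = true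
  a_ok : ∀ a, a < D.nA → checkA D P a = true
  t_ok : ∀ j, j < 24 → checkT D P j = true

variable {D} {Q : Type*} [Group Q] {M : QModel Q} {N : Nat}

theorem mem_of_inC (V : Ok D M.toTab N) {w : Nat} (h : inC D M.toTab w = true) :
    M.toTab.okWord w = true ∧ M.el w ∈ Subgroup.centralizer ({M.el D.xw} : Set Q) := by
  simp only [inC, gate_eq, Bool.and_eq_true] at h
  refine ⟨h.1, ?_⟩
  have e := Nat.eq_of_beq_eq_true h.2
  rw [TSift.base_el M V.xw_ok, TSift.base_el M h.1, TSift.tup_el M h.1, TSift.tup_el M V.xw_ok] at e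
  rw [Subgroup.mem_centralizer_singleton_iff]
  exact (M.inj e).symm

theorem card_ge [Finite Q] (V : Ok D M.toTab N) :
    378000 ≤ Nat.card (Subgroup.centralizer ({M.el D.xw} : Set Q)) := by
  rw [← V.prod_eq]
  refine M.card_ge _ D.chain (fun l a hl ha => ?_) V.gen_ok V.pt_ok
  have h := V.expr_ok l a hl ha
  simp only [checkExpr, force_eq, gate_eq, Bool.and_eq_true] at h
  exact (mem_of_inC V h.1).2

/-- Normal subgroups above the element. -/
theorem simple [Finite Q] (V : Ok D M.toTab N) (ρ : Q →* Equiv.Perm (Fin N))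
    (hρ : ∀ (w : Nat), M.toTab.okWord w = true → ∀ p : Fin N,
      actW M.act p.val w = ((ρ (M.el w))⁻¹ p).val)
    (hC : Nat.card (Subgroup.centralizer ({M.el D.xw} : Set Q)) = 378000)
    (K : Subgroup Q) (hK : K ≤ Subgroup.centralizer ({M.el D.xw} : Set Q))
    (hx : M.el D.xw ∈ K)
    (hn : ∀ l ∈ Subgroup.centralizer ({M.el D.xw} : Set Q), ∀ m ∈ K, l * m * l⁻¹ ∈ K) :
    K = Subgroup.zpowers (M.el D.xw) ∨ K = Subgroup.centralizer ({M.el D.xw} : Set Q) := by
  classical
  set x := M.el D.xw
  set C := Subgroup.centralizer ({x} : Set Q)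
  letI act : MulAction C (Fin N) :=
    MulAction.compHom (Fin N) (ρ.comp C.subtype)
  have hsm : ∀ (c : C) (p : Fin N), c • p = ρ (c : Q) p := fun _ _ => rfl
  have hwfix : ∀ {w : Nat}, M.toTab.okWord w = true → ∀ {p q : Fin N},
      actW M.act p.val w = q.val → ρ (M.el w) q = p := by
    intro w hw p q h
    rw [hρ w hw p] at h
    rw [← Fin.ext h, Equiv.Perm.coe_inv, Equiv.apply_symm_apply]
  have hN : ∀ i, i < 126 → D.opt i < N ∧ D.opos (D.opt i) = i ∧
      actW M.act (D.opt i) D.xw = D.opt i := by
    intro i hi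
    have h := V.o_ok i hi
    simp only [checkO, force_eq, gate_eq, Bool.and_eq_true] at h
    exact ⟨Nat.ble_eq.mp h.1, Nat.eq_of_beq_eq_true h.2.1, Nat.eq_of_beq_eq_true h.2.2.1⟩
  let pt : Fin 126 → Fin N := fun i => ⟨D.opt i, (hN i i.2).1⟩
  have hpt : Function.Injective pt := fun a b h => Fin.ext (by
    have := congrArg (fun p : Fin N => D.opos p.val) h
    simp only [pt] at this
    rwa [(hN a a.2).2.1, (hN b b.2).2.1] at this)
  let α := pt 0
  let β := pt 1
  -- the orbit of the first point
  have htrans : ∀ i : Fin 126, pt i ∈ MulAction.orbit C α := by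
    rintro ⟨i, hi⟩
    induction i using Nat.strong_induction_on with
    | _ i ih =>
      by_cases h0 : i = 0
      · subst h0; exact MulAction.mem_orbit_self _
      · have h := V.o_ok i hi
        simp only [checkO, force_eq, gate_eq, Bool.and_eq_true] at h
        have h4 := h.2.2.2.1
        rw [show Nat.beq i 0 = false by
          cases hb : Nat.beq i 0
          · rfl
          · exact absurd (Nat.eq_of_beq_eq_true hb) h0] at h4
        simp only [Bool.and_eq_true] at h4
        obtain ⟨hp, hv, he⟩ := h4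
        obtain ⟨hw, hc⟩ := mem_of_inC V (V.g_ok _ (Nat.ble_eq.mp hv))
        obtain ⟨c, hc'⟩ := ih _ (Nat.ble_eq.mp hp) (by have := Nat.ble_eq.mp hp; omega)
        have he := Nat.eq_of_beq_eq_true he
        have e := hwfix hw (p := pt ⟨D.opar i, by have := Nat.ble_eq.mp hp; omega⟩) (q := pt ⟨i, hi⟩) he
        refine ⟨(⟨_, hc⟩ : C)⁻¹ * c, ?_⟩
        show ((⟨_, hc⟩ : C)⁻¹ * c) • α = _
        rw [mul_smul, show c • α = _ from hc', inv_smul_eq_iff, hsm]
        exact e.symm
  have horbit : MulAction.orbit C α = Set.range pt := by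
    refine Set.Subset.antisymm ?_ (by rintro _ ⟨i, rfl⟩; exact htrans i)
    rintro p ⟨c, rfl⟩
    have hfix : ρ x α = α := hwfix V.xw_ok (hN 0 (by norm_num)).2.2
    have hcom : (c : Q) * x = x * (c : Q) := Subgroup.mem_centralizer_singleton_iff.1 c.2
    have hfix' : ρ x (c • α) = c • α := by
      rw [hsm, ← Equiv.Perm.mul_apply, ← map_mul, ← hcom, map_mul, Equiv.Perm.mul_apply, hfix]
    have h := V.fix_ok (c • α).val (c • α).2
    have e : actW M.act (c • α).val D.xw = (c • α).val := by
      rw [hρ _ V.xw_ok]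
      exact congrArg Fin.val (Equiv.Perm.inv_eq_iff_eq.2 hfix'.symm)
    rw [checkFix, e, Nat.beq_refl] at h
    simp only [force_eq, gate_eq, Bool.and_eq_true] at h
    exact ⟨⟨_, Nat.ble_eq.mp h.1⟩, Fin.ext (Nat.eq_of_beq_eq_true h.2)⟩
  have hcardO : Nat.card (MulAction.orbit C α) = 126 := by
    rw [horbit, Nat.card_range_of_injective hpt, Nat.card_fin]
  -- the stabiliser of the first point moves the second to all others
  have htrans2 : ∀ i : Fin 126, i ≠ 0 →
      ∃ c : C, c • α = α ∧ c • β = pt i := by
    rintro ⟨i, hi⟩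
    induction i using Nat.strong_induction_on with
    | _ i ih =>
      intro h0
      by_cases h1 : i = 1
      · subst h1; exact ⟨1, one_smul _ _, one_smul _ _⟩
      · have hi2 : 2 ≤ i := by
          rcases Nat.lt_or_ge i 2 with h | h
          · interval_cases i
            · exact absurd rfl h0
            · exact absurd rfl h1
          · exact h
        have h := V.o_ok i hi
        simp only [checkO, force_eq, gate_eq, Bool.and_eq_true] at h
        have h5 := h.2.2.2.2
        rw [show Nat.ble i 1 = false by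
          cases hb : Nat.ble i 1
          · rfl
          · have := Nat.ble_eq.mp hb; omega] at h5
        simp only [Bool.and_eq_true] at h5
        obtain ⟨hp, hp1, hv, he⟩ := h5
        have ha := V.a_ok _ (Nat.ble_eq.mp hv)
        simp only [checkA, force_eq, gate_eq, Bool.and_eq_true] at ha
        obtain ⟨hw, hc⟩ := mem_of_inC V ha.1
        obtain ⟨c, hca, hcb⟩ := ih _ (Nat.ble_eq.mp hp) (by have := Nat.ble_eq.mp hp; omega)
          (fun h => by have := congrArg Fin.val h; have := Nat.ble_eq.mp hp1; simp at *; omega)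
        refine ⟨(⟨_, hc⟩ : C)⁻¹ * c, ?_, ?_⟩
        · rw [mul_smul, hca, inv_smul_eq_iff, hsm]
          exact (hwfix hw (p := α) (q := α) (Nat.eq_of_beq_eq_true ha.2)).symm
        · rw [mul_smul, hcb, inv_smul_eq_iff, hsm]
          exact (hwfix hw (p := pt ⟨D.apar i, _⟩) (q := pt ⟨i, hi⟩) (Nat.eq_of_beq_eq_true he)).symm
  have hne : ∀ i : Fin 126, i ≠ 0 → pt i ≠ α := fun i hi h => hi (hpt h)
  -- the stabiliser of two points
  have hT : ∀ c : C, c • α = α → c • β = β → ∃ j, j < 24 ∧ M.el (D.tw j) = (c : Q) := by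
    set St := MulAction.stabilizer C α
    have hst : Nat.card St = 3000 := by
      have := Nat.card_congr (MulAction.orbitProdStabilizerEquivGroup C α)
      rw [Nat.card_prod, hcardO, hC] at this
      change 126 * Nat.card St = 378000 at this
      omega
    have horb2 : MulAction.orbit St β = pt '' {i | i ≠ 0} := by
      apply Set.Subset.antisymm
      · rintro p ⟨⟨c, hc⟩, rfl⟩
        have h1 : c • β ∈ MulAction.orbit C α := by
          obtain ⟨d, hd⟩ := htrans 1
          exact ⟨c * d, by show (c * d) • α = c • β; rw [mul_smul, show d • α = β from hd]⟩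
        rw [horbit] at h1
        obtain ⟨i, hi⟩ := h1
        refine ⟨i, fun h => ?_, hi⟩
        subst h
        have : c • β = c • α := hi.symm.trans (MulAction.mem_stabilizer_iff.1 hc).symm
        exact hne 1 (by decide) (MulAction.injective c this)
      · rintro _ ⟨i, hi, rfl⟩
        obtain ⟨c, hca, hcb⟩ := htrans2 i hi
        exact ⟨⟨c, hca⟩, hcb⟩
    have hst2 : Nat.card (MulAction.stabilizer St β) = 24 := by
      have := Nat.card_congr (MulAction.orbitProdStabilizerEquivGroup St β)
      rw [Nat.card_prod, horb2, Nat.card_image_of_injective hpt, hst] at this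
      have h125 : Nat.card {i : Fin 126 | i ≠ 0} = 125 := by
        rw [show {i : Fin 126 | i ≠ 0} = ({0}ᶜ : Set (Fin 126)) from Set.ext fun i => by simp,
          Nat.card_coe_set_eq, Set.ncard_compl, Set.ncard_singleton, Nat.card_fin]
      rw [h125] at this
      change 125 * Nat.card (MulAction.stabilizer St β) = 3000 at this
      omega
    have ht : ∀ j, j < 24 → ∃ c : MulAction.stabilizer St β, M.el (D.tw j) = ((c : St) : C) ∧
        (j + 1 < 24 → M.tup (M.el (D.tw j)) < M.toTab.app M.base (D.tw (j + 1))) := by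
      intro j hj
      have h := V.t_ok j hj
      simp only [checkT, force_eq, gate_eq, Bool.and_eq_true, Nat.succ_eq_add_one] at h
      obtain ⟨h1, h2, h3, h4, -⟩ := h
      obtain ⟨hw, hc⟩ := mem_of_inC V h1
      have f2 := hwfix hw (p := α) (q := α) (Nat.eq_of_beq_eq_true h2)
      have f3 := hwfix hw (p := β) (q := β) (Nat.eq_of_beq_eq_true h3)
      refine ⟨⟨⟨⟨_, hc⟩, f2⟩, f3⟩, rfl, fun hj1 => ?_⟩
      rw [show Nat.blt (j + 1) 24 = true from Nat.ble_eq.mpr hj1, TSift.base_el M hw] at h4
      exact Nat.ble_eq.mp h4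
    choose f hf hlt using fun j : Fin 24 => ht j j.2
    have hmono : ∀ a b : Fin 24, a < b → M.tup (M.el (D.tw a)) < M.tup (M.el (D.tw b)) := by
      intro a b hab
      obtain ⟨a, ha⟩ := a; obtain ⟨b, hb⟩ := b
      replace hab : a < b := hab
      induction b, hab using Nat.le_induction with
      | base =>
        have h := V.t_ok (a + 1) hb
        simp only [checkT, force_eq, gate_eq, Bool.and_eq_true] at h
        rw [← TSift.base_el M (mem_of_inC V h.1).1]
        exact hlt ⟨a, ha⟩ hb
      | succ b _ ih =>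
        refine (ih (by omega)).trans ?_
        have h := V.t_ok (b + 1) hb
        simp only [checkT, force_eq, gate_eq, Bool.and_eq_true] at h
        rw [← TSift.base_el M (mem_of_inC V h.1).1]
        exact hlt ⟨b, by omega⟩ hb
    have hinj : Function.Injective f := by
      intro a b h
      have e : M.tup (M.el (D.tw a)) = M.tup (M.el (D.tw b)) := by rw [hf a, hf b, h]
      rcases lt_trichotomy a b with h' | h' | h'
      · have := hmono a b h'; omega
      · exact h'
      · have := hmono b a h'; omega
    have hbij : Function.Bijective f :=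
      (Nat.bijective_iff_injective_and_card f).2 ⟨hinj, by rw [hst2, Nat.card_fin]⟩
    intro c hca hcb
    obtain ⟨j, hj⟩ := hbij.2 ⟨⟨c, hca⟩, hcb⟩
    exact ⟨j, j.2, by rw [hf j, hj]⟩
  by_cases hfixK : ∀ m (hm : m ∈ K), (⟨m, hK hm⟩ : C) • α = α
  · refine Or.inl (le_antisymm ?_ (Subgroup.zpowers_le.2 hx))
    intro m hm
    have hall : ∀ i : Fin 126, (⟨m, hK hm⟩ : C) • pt i = pt i := by
      intro i
      obtain ⟨c, hc⟩ := htrans i
      have h1 := hfixK _ (hn _ (C.inv_mem c.2) m hm)
      rw [← show c • α = pt i from hc]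
      have e : (⟨m, hK hm⟩ : C) = c * ⟨(c : Q)⁻¹ * m * (c : Q)⁻¹⁻¹, hK (hn _ (C.inv_mem c.2) m hm)⟩ * c⁻¹ :=
        Subtype.ext (by simp [mul_assoc])
      conv_lhs => rw [e, mul_smul, inv_smul_smul, mul_smul, h1]
    obtain ⟨j, hj, hje⟩ := hT _ (hall 0) (hall 1)
    have h := V.t_ok j hj
    simp only [checkT, force_eq, gate_eq, Bool.and_eq_true] at h
    obtain ⟨h1, -, -, -, h5⟩ := h
    obtain ⟨hw, -⟩ := mem_of_inC V h1
    rw [TSift.base_el M hw, TSift.base_el M V.xw_ok, TSift.tup_el M V.xw_ok] at h5
    change M.el (D.tw j) = m at hje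
    cases hb1 : Nat.beq (M.tup (M.el (D.tw j))) M.base
    · cases hb2 : Nat.beq (M.tup (M.el (D.tw j))) (M.tup x)
      · cases hb3 : Nat.beq (M.tup (M.el (D.tw j))) (M.tup (x * x))
        · rw [hb1, hb2, hb3] at h5
          simp only [Bool.and_eq_true] at h5
          obtain ⟨hi, hne'⟩ := h5
          have hi := Nat.ble_eq.mp hi
          have hfm := hall ⟨_, hi⟩
          rw [hsm] at hfm
          change ρ m _ = _ at hfm
          have e : actW M.act (D.opt (D.mv j)) (D.tw j) = D.opt (D.mv j) := by
            rw [show D.opt (D.mv j) = (pt ⟨_, hi⟩).val from rfl, hρ _ hw, hje]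
            exact congrArg Fin.val (Equiv.Perm.inv_eq_iff_eq.2 hfm.symm)
          rw [e, Nat.beq_refl] at hne'
          exact absurd hne' (by simp)
        · rw [← hje, M.inj (Nat.eq_of_beq_eq_true hb3)]
          exact mul_mem (Subgroup.mem_zpowers x) (Subgroup.mem_zpowers x)
      · rw [← hje, M.inj (Nat.eq_of_beq_eq_true hb2)]
        exact Subgroup.mem_zpowers x
    · have e := Nat.eq_of_beq_eq_true hb1
      rw [← M.one] at e
      rw [← hje, M.inj e]
      exact one_mem _
  · refine Or.inr (le_antisymm hK ?_)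
    push Not at hfixK
    obtain ⟨m, hm, hmα⟩ := hfixK
    set K' := K.subgroupOf C
    have horbK : MulAction.orbit K' α = MulAction.orbit C α := by
      apply Set.Subset.antisymm
      · rintro p ⟨⟨c, hc⟩, rfl⟩; exact ⟨c, rfl⟩
      · rw [horbit]
        rintro _ ⟨i, rfl⟩
        by_cases hi : i = 0
        · subst hi; exact MulAction.mem_orbit_self _
        · have h1 : (⟨m, hK hm⟩ : C) • α ∈ MulAction.orbit C α := ⟨_, rfl⟩
          rw [horbit] at h1
          obtain ⟨i0, hi0⟩ := h1
          have hi0' : i0 ≠ 0 := fun h => by subst h; exact hmα hi0.symm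
          obtain ⟨c0, hc0a, hc0b⟩ := htrans2 i0 hi0'
          obtain ⟨c, hca, hcb⟩ := htrans2 i hi
          refine ⟨⟨(c * c0⁻¹) * ⟨m, hK hm⟩ * (c * c0⁻¹)⁻¹, hn _ (c * c0⁻¹).2 m hm⟩, ?_⟩
          show ((c * c0⁻¹) * ⟨m, hK hm⟩ * (c * c0⁻¹)⁻¹) • α = pt i
          have e : (c * c0⁻¹)⁻¹ • α = α := by
            rw [inv_smul_eq_iff, mul_smul, inv_smul_eq_iff.2 hc0a.symm, hca]
          rw [mul_smul, e, mul_smul, ← hi0, ← hc0b, mul_smul, inv_smul_smul, hcb]
    have h7 : 126 ∣ Nat.card K' := by
      rw [← hcardO, ← horbK]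
      exact ⟨_, by rw [← Nat.card_prod]; exact (Nat.card_congr (MulAction.orbitProdStabilizerEquivGroup K' α)).symm⟩
    haveI hnK : K'.Normal := ⟨fun k hk c => hn c c.2 k hk⟩
    have hidx : ¬ 7 ∣ K'.index := by
      intro h
      have h2 := Nat.mul_dvd_mul h7 h
      rw [K'.card_mul_index, hC] at h2
      norm_num at h2
    have hroot : ∀ s ∈ C, s ^ 7 = 1 → s ∈ K := by
      intro s hs hs7
      set q : C ⧸ K' := QuotientGroup.mk ⟨s, hs⟩
      have e7 : q ^ 7 = 1 := by
        rw [← QuotientGroup.mk_pow, show (⟨s, hs⟩ : C) ^ 7 = 1 from Subtype.ext hs7]; rfl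
      have ei : q ^ K'.index = 1 := by rw [Subgroup.index_eq_card]; exact pow_card_eq_one'
      have hg : Nat.gcd 7 K'.index = 1 :=
        (Nat.Prime.coprime_iff_not_dvd (by norm_num)).2 hidx
      have e1 : q = 1 := by rw [← pow_one q, ← hg]; exact pow_gcd_eq_one.2 ⟨e7, ei⟩
      exact (QuotientGroup.eq_one_iff (N := K') (⟨s, hs⟩ : C)).1 e1
    have hSK : ∀ l a, l < M.k → a < D.chain.nGen l → M.el (D.chain.gen l a) ∈ K := by
      intro l a hl ha
      have h := V.expr_ok l a hl ha
      simp only [checkExpr, force_eq, gate_eq, Bool.and_eq_true] at h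
      obtain ⟨h1, h2, h3⟩ := h
      have hws : ∀ i ∈ D.expr l a, M.toTab.okWord
          (Bool.rec (motive := fun _ => Nat) D.xw (D.sw i) (Nat.blt i D.nS)) = true ∧
          M.el (Bool.rec (motive := fun _ => Nat) D.xw (D.sw i) (Nat.blt i D.nS)) ∈ K := by
        intro i _
        cases hb : Nat.blt i D.nS
        · exact ⟨V.xw_ok, hx⟩
        · have hs := V.s_ok i (Nat.ble_eq.mp hb)
          simp only [checkS, force_eq, gate_eq, Bool.and_eq_true] at hs
          obtain ⟨hw, hc⟩ := mem_of_inC V hs.1
          refine ⟨hw, hroot _ hc ?_⟩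
          have e := Nat.eq_of_beq_eq_true hs.2
          rw [TSift.base_el M hw, TSift.tup_el M hw, TSift.tup_el M hw, TSift.tup_el M hw,
            TSift.tup_el M hw, TSift.tup_el M hw, TSift.tup_el M hw, ← M.one] at e
          rw [← M.inj e]
          simp [pow_succ]
      have e := Nat.eq_of_beq_eq_true h3
      rw [Sift.tupL_eq _ (fun w hw => by
        obtain ⟨i, hi, rfl⟩ := List.mem_map.1 hw
        exact (hws i hi).1), TSift.base_el M (mem_of_inC V h1).1] at e
      rw [← M.inj e]
      refine Subgroup.list_prod_mem K fun g hg => ?_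
      obtain ⟨w, hw, rfl⟩ := List.mem_map.1 hg
      obtain ⟨i, hi, rfl⟩ := List.mem_map.1 hw
      exact (hws i hi).2
    have h1 := M.card_ge K D.chain hSK V.gen_ok V.pt_ok
    rw [V.prod_eq, ← hC] at h1
    exact (Subgroup.eq_of_le_of_card_ge hK h1).ge

end Cent

end Cfsg.Agent.LyThree
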