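import Cfsg.Agent.LyThree.CentData
import Cfsg.Agent.DCoset.Ly.Table

/-! The centraliser data are valid. -/

set_option Elab.async false
set_option maxRecDepth 100000

namespace Cfsg.Agent.LyThree

open Cfsg.Agent.DCoset Cfsg.Agent.CosetCert

theorem cent_s : allFrom (Cent.checkS cent Ly.tab) 0 cent.nS = true := by
  decide +kernel

theorem cent_gen : allFrom (fun l => allFrom (QModel.checkGen Ly.tab cent.chain l) 0 (cent.chain.nGen l)) 0 4 = true := by
  decide +kernel

theorem cent_pt : allFrom (fun l => allFrom (QModel.checkPt Ly.tab cent.chain l) 0 (cent.chain.size l)) 0 4 = true := by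
  decide +kernel

theorem cent_prod : ((List.range Ly.tab.k).map cent.chain.size).prod = 378000 := by
  decide +kernel

theorem cent_expr : allFrom (fun l => allFrom (Cent.checkExpr cent Ly.tab l) 0 (cent.chain.nGen l)) 0 4 = true := by
  decide +kernel

theorem cent_fix : allFrom (Cent.checkFix cent Ly.tab) 0 3906 = true := by
  decide +kernel

theorem cent_o : allFrom (Cent.checkO cent Ly.tab 3906) 0 126 = true := by
  decide +kernel

theorem cent_g : allFrom (fun a => Cent.inC cent Ly.tab (cent.gw a)) 0 cent.nG = true := by
  decide +kernel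

theorem cent_a : allFrom (Cent.checkA cent Ly.tab) 0 cent.nA = true := by
  decide +kernel

theorem cent_t : allFrom (Cent.checkT cent Ly.tab) 0 24 = true := by
  decide +kernel

theorem cent_ok : Cent.Ok cent Ly.tab 3906 where
  xw_ok := by decide +kernel
  s_ok _ h := allFrom_all cent_s h
  gen_ok l _ hl h := allFrom_all (allFrom_all cent_gen hl :) h
  pt_ok l _ hl h := allFrom_all (allFrom_all cent_pt hl :) h
  prod_eq := cent_prod
  expr_ok l _ hl h := allFrom_all (allFrom_all cent_expr hl :) h
  fix_ok _ h := allFrom_all cent_fix h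
  o_ok _ h := allFrom_all cent_o h
  g_ok _ h := allFrom_all cent_g h
  a_ok _ h := allFrom_all cent_a h
  t_ok _ h := allFrom_all cent_t h

end Cfsg.Agent.LyThree
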