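import Cfsg.Agent.LyThree.TSift

/-!
A conjugacy class of a model listed by tuples, and the members of the class in a subgroup.
-/

set_option autoImplicit false

namespace Cfsg.Agent.LyThree

open Cfsg.Agent.DCoset Cfsg.Agent.CosetCert

/-- A listed class: each member is a word, and a conjugate of an earlier one by a letter. -/
structure Cls where
  n : Nat
  key : Nat → Nat
  word : Nat → Nat
  par : Nat → Nat
  via : Nat → Nat
  srt : Nat → Nat

namespace Cls

variable (D : Cls) (P : Tab)

/-- Member `i` has the stated tuple and is conjugate to its parent. -/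
noncomputable def checkConj (i : Nat) : Bool :=
  force (D.word i) fun w => gate (P.okWord w) (gate (Nat.beq (P.app P.base w) (D.key i))
    (Bool.rec (motive := fun _ => Bool)
      (force (D.par i) fun p => force (D.via i) fun g => gate (Nat.blt p i) (gate (Nat.blt g P.nL)
        (Nat.beq (P.app (mapTup (P.act g) P.k P.base) w) (mapTup (P.act g) P.k (D.key p)))))
      true (Nat.beq i 0)))

/-- The tuples listed in order increase. -/
noncomputable def checkSrt (j : Nat) : Bool :=
  force (D.srt j) fun i => gate (Nat.blt i D.n)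
    (Bool.rec (motive := fun _ => Bool) true (Nat.blt (D.key i) (D.key (D.srt (Nat.succ j))))
      (Nat.blt (Nat.succ j) D.n))

/-- All conditions. -/
structure Ok : Prop where
  conj_ok : ∀ i, i < D.n → checkConj D P i = true
  srt_ok : ∀ j, j < D.n → checkSrt D j = true

variable {D} {Q : Type*} [Group Q] {M : QModel Q}

theorem conj_spec (V : Ok D M.toTab) {i : Nat} (hi : i < D.n) :
    M.tup (M.el (D.word i)) = D.key i ∧ (i ≠ 0 → D.par i < i ∧
      (D.par i < D.n → M.q (D.via i) * M.el (D.word i) = M.el (D.word (D.par i)) * M.q (D.via i))) := by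
  have h := V.conj_ok i hi
  simp only [checkConj, force_eq, gate_eq, Bool.and_eq_true] at h
  obtain ⟨h1, h2, h3⟩ := h
  have e2 := Nat.eq_of_beq_eq_true h2
  rw [TSift.base_el M h1] at e2
  refine ⟨e2, fun h0 => ?_⟩
  have hb : Nat.beq i 0 = false := by
    cases hb : Nat.beq i 0
    · rfl
    · exact absurd (Nat.eq_of_beq_eq_true hb) h0
  rw [hb] at h3
  simp only [Bool.and_eq_true] at h3
  obtain ⟨hp, hg, he⟩ := h3
  refine ⟨Nat.ble_eq.mp hp, fun hpn => M.inj ?_⟩
  have hpk : M.tup (M.el (D.word (D.par i))) = D.key (D.par i) := by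
    have h' := V.conj_ok _ hpn
    simp only [checkConj, force_eq, gate_eq, Bool.and_eq_true] at h'
    obtain ⟨a1, a2, -⟩ := h'
    have := Nat.eq_of_beq_eq_true a2
    rwa [TSift.base_el M a1] at this
  have e := Nat.eq_of_beq_eq_true he
  rw [← hpk, ← M.step _ _ (Nat.ble_eq.mp hg), ← M.one, ← M.step _ _ (Nat.ble_eq.mp hg),
    TSift.tup_el M h1, one_mul] at e
  exact e

theorem isConj (V : Ok D M.toTab) : ∀ i, i < D.n → IsConj (M.el (D.word 0)) (M.el (D.word i)) := by
  intro i
  induction i using Nat.strong_induction_on with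
  | _ i ih =>
    intro hi
    by_cases h0 : i = 0
    · rw [h0]
    · obtain ⟨hp, he⟩ := (conj_spec V hi).2 h0
      refine (ih _ hp (by omega)).trans (isConj_iff.2 ⟨(M.q (D.via i))⁻¹, ?_⟩)
      rw [inv_inv, mul_assoc, ← he (by omega), inv_mul_cancel_left]

theorem inj (V : Ok D M.toTab) {i j : Nat} (hi : i < D.n) (hj : j < D.n)
    (h : M.el (D.word i) = M.el (D.word j)) : i = j := by
  classical
  have hkey : D.key i = D.key j := by rw [← (conj_spec V hi).1, ← (conj_spec V hj).1, h]
  let f : Fin D.n → Fin D.n := fun a => ⟨D.srt a, by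
    have h := V.srt_ok a a.2
    simp only [checkSrt, force_eq, gate_eq, Bool.and_eq_true] at h
    exact Nat.ble_eq.mp h.1⟩
  have hstep : ∀ a, a + 1 < D.n → D.key (D.srt a) < D.key (D.srt (a + 1)) := fun a ha => by
    have h := V.srt_ok a (by omega)
    simp only [checkSrt, force_eq, gate_eq, Bool.and_eq_true, Nat.succ_eq_add_one] at h
    have h2 := h.2
    rw [show Nat.blt (a + 1) D.n = true from Nat.ble_eq.mpr ha] at h2
    exact Nat.ble_eq.mp h2
  have hlt : ∀ a b, a < b → b < D.n → D.key (D.srt a) < D.key (D.srt b) := by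
    intro a b hab
    induction b, hab using Nat.le_induction with
    | base => exact hstep a
    | succ b _ ih => exact fun hb => (ih (by omega)).trans (hstep b hb)
  have hfi : Function.Injective f := by
    intro a b h
    have e : D.key (D.srt a) = D.key (D.srt b) := congrArg D.key (congrArg Fin.val h)
    rcases Nat.lt_trichotomy a.1 b.1 with h' | h' | h'
    · have := hlt _ _ h' b.2; omega
    · exact Fin.ext h'
    · have := hlt _ _ h' a.2; omega
  obtain ⟨a, ha⟩ := (Finite.injective_iff_surjective.1 hfi) ⟨i, hi⟩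
  obtain ⟨b, hb⟩ := (Finite.injective_iff_surjective.1 hfi) ⟨j, hj⟩
  have ha' : D.srt a.1 = i := congrArg Fin.val ha
  have hb' : D.srt b.1 = j := congrArg Fin.val hb
  rcases Nat.lt_trichotomy a.1 b.1 with h' | h' | h'
  · have := hlt _ _ h' b.2; rw [ha', hb'] at this; omega
  · rw [← ha', ← hb', h']
  · have := hlt _ _ h' a.2; rw [ha', hb'] at this; omega

/-- With enough centralising elements the list is the class, and the centraliser has the expected order. -/
theorem complete [Finite Q] (V : Ok D M.toTab) {c : Nat} (hn : 0 < D.n) (hQ : Nat.card Q = D.n * c)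
    (hc : c ≤ Nat.card (Subgroup.centralizer ({M.el (D.word 0)} : Set Q))) :
    Nat.card (Subgroup.centralizer ({M.el (D.word 0)} : Set Q)) = c ∧
      ∀ y, IsConj (M.el (D.word 0)) y → ∃ i, i < D.n ∧ M.el (D.word i) = y := by
  classical
  set x := M.el (D.word 0)
  set C := Subgroup.centralizer ({x} : Set Q)
  set Cl := {y : Q | IsConj x y}
  have hidx : Nat.card Cl ≤ C.index := by
    refine Nat.card_le_card_of_surjective (fun q : Q ⧸ C => Quotient.liftOn' q
      (fun g => (⟨g * x * g⁻¹, isConj_iff.2 ⟨g, rfl⟩⟩ : Cl)) ?_) ?_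
    · intro a b h
      rw [QuotientGroup.leftRel_apply] at h
      have h := Subgroup.mem_centralizer_singleton_iff.1 h
      apply Subtype.ext
      show a * x * a⁻¹ = b * x * b⁻¹
      have h2 : x * (a⁻¹ * b) = a⁻¹ * b * x := h.symm
      calc a * x * a⁻¹ = a * (x * (a⁻¹ * b)) * b⁻¹ := by group
        _ = a * (a⁻¹ * b * x) * b⁻¹ := by rw [h2]
        _ = b * x * b⁻¹ := by group
    · rintro ⟨y, hy⟩
      obtain ⟨g, rfl⟩ := isConj_iff.1 hy
      exact ⟨QuotientGroup.mk g, rfl⟩
  let f : Fin D.n → Cl := fun i => ⟨_, isConj V i i.2⟩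
  have hf : Function.Injective f := fun a b h => Fin.ext (inj V a.2 b.2 (congrArg Subtype.val h :))
  have hge : D.n ≤ Nat.card Cl := by simpa using Nat.card_le_card_of_injective f hf
  have hmul := C.card_mul_index
  rw [hQ] at hmul
  have hle : Nat.card C ≤ c := by
    refine Nat.le_of_mul_le_mul_right ?_ hn
    calc Nat.card C * D.n ≤ Nat.card C * C.index := Nat.mul_le_mul_left _ (hge.trans hidx)
      _ = c * D.n := by rw [hmul, Nat.mul_comm]
  have hC : Nat.card C = c := le_antisymm hle hc
  refine ⟨hC, fun y hy => ?_⟩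
  have hc0 : 0 < c := hC ▸ Nat.card_pos
  have hidx' : C.index = D.n :=
    Nat.eq_of_mul_eq_mul_left hc0 (by rw [← hC, hmul, Nat.mul_comm, hC])
  have hbij : Function.Bijective f :=
    (Nat.bijective_iff_injective_and_card f).2 ⟨hf, by simp only [Nat.card_fin]; omega⟩
  obtain ⟨i, hi⟩ := hbij.2 ⟨y, hy⟩
  exact ⟨i, i.2, congrArg Subtype.val hi⟩

end Cls

/-- The members of a class in a subgroup, forming one orbit under conjugation by it. -/
structure Part where
  c : Nat
  ks : Nat → Nat
  pos : Nat → Nat
  par : Nat → Nat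
  via : Nat → Nat

namespace Part

variable (R : Part) (D : Cls) (T : TSift) (P : Tab)

/-- A class member in the subgroup is listed. -/
noncomputable def checkAll (i : Nat) : Bool :=
  Bool.rec (motive := fun _ => Bool) true
    (force (R.pos i) fun j => gate (Nat.blt j R.c) (Nat.beq (R.ks j) i))
    (T.mem P (D.key i))

/-- A listed member is in the subgroup, and is conjugate to an earlier one by a generator. -/
noncomputable def checkMem (j : Nat) : Bool :=
  force (R.ks j) fun i => gate (Nat.blt i D.n) (gate (T.mem P (D.key i)) (gate (Nat.beq (R.pos i) j)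
    (Bool.rec (motive := fun _ => Bool)
      (force (R.par j) fun p => force (R.via j) fun a => gate (Nat.blt p j) (gate (Nat.blt a T.nGen)
        (force (T.gen a) fun g =>
          Nat.beq (P.app (P.app P.base g) (D.word i)) (P.app (D.key (R.ks p)) g))))
      true (Nat.beq j 0))))

/-- All conditions. -/
structure Ok : Prop where
  pos_c : 0 < R.c
  all_ok : ∀ i, i < D.n → checkAll R D T P i = true
  mem_ok : ∀ j, j < R.c → checkMem R D T P j = true

variable {R D T} {Q : Type*} [Group Q] {M : QModel Q}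

/-- The count and the transitivity. -/
theorem spec [Finite Q] (W : Ok R D T M.toTab) (V : Cls.Ok D M.toTab) (VT : TSift.Ok T M.toTab)
    (S : Subgroup Q) (hgen : ∀ a, a < T.nGen → M.el (T.gen a) ∈ S)
    (hcard : Nat.card S ≤ ((List.range M.k).map T.size).prod)
    (hcomp : ∀ y, IsConj (M.el (D.word 0)) y → ∃ i, i < D.n ∧ M.el (D.word i) = y) :
    Nat.card {s : Q // s ∈ S ∧ IsConj (M.el (D.word 0)) s} = R.c ∧
      M.el (D.word (R.ks 0)) ∈ S ∧
      ∀ y ∈ S, IsConj (M.el (D.word 0)) y → ∃ s ∈ S, s * M.el (D.word (R.ks 0)) * s⁻¹ = y := by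
  classical
  have hmem : ∀ j, j < R.c → R.ks j < D.n ∧ M.el (D.word (R.ks j)) ∈ S ∧ R.pos (R.ks j) = j := by
    intro j hj
    have h := W.mem_ok j hj
    simp only [checkMem, force_eq, gate_eq, Bool.and_eq_true] at h
    obtain ⟨h1, h2, h3, -⟩ := h
    have h1 := Nat.ble_eq.mp h1
    refine ⟨h1, (TSift.mem_iff VT S hgen hcard _).2 ?_, Nat.eq_of_beq_eq_true h3⟩
    rw [(Cls.conj_spec V h1).1]
    exact h2
  have hconv : ∀ y, y ∈ S → IsConj (M.el (D.word 0)) y →
      ∃ j, j < R.c ∧ M.el (D.word (R.ks j)) = y := by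
    intro y hy hc
    obtain ⟨i, hi, rfl⟩ := hcomp y hc
    have hm := (TSift.mem_iff VT S hgen hcard _).1 hy
    rw [(Cls.conj_spec V hi).1] at hm
    have h := W.all_ok i hi
    rw [checkAll, hm] at h
    simp only [force_eq, gate_eq, Bool.and_eq_true] at h
    exact ⟨R.pos i, Nat.ble_eq.mp h.1, by rw [Nat.eq_of_beq_eq_true h.2]⟩
  refine ⟨?_, (hmem 0 W.pos_c).2.1, ?_⟩
  · rw [← Nat.card_fin R.c]
    symm
    refine Nat.card_eq_of_bijective (fun j : Fin R.c =>
      (⟨_, (hmem j j.2).2.1, Cls.isConj V _ (hmem j j.2).1⟩ :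
        {s : Q // s ∈ S ∧ IsConj (M.el (D.word 0)) s})) ⟨?_, ?_⟩
    · intro a b h
      have e := Cls.inj V (hmem a a.2).1 (hmem b b.2).1 (congrArg Subtype.val h :)
      exact Fin.ext (by rw [← (hmem a a.2).2.2, e, (hmem b b.2).2.2])
    · rintro ⟨y, hy, hc⟩
      obtain ⟨j, hj, e⟩ := hconv y hy hc
      exact ⟨⟨j, hj⟩, Subtype.ext e⟩
  · intro y hy hc
    obtain ⟨j, hj, rfl⟩ := hconv y hy hc
    clear hy hc
    induction j using Nat.strong_induction_on with
    | _ j ih =>
      by_cases h0 : j = 0
      · exact ⟨1, S.one_mem, by simp [h0]⟩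
      · have h := W.mem_ok j hj
        simp only [checkMem, force_eq, gate_eq, Bool.and_eq_true] at h
        obtain ⟨-, -, -, h4⟩ := h
        have hb : Nat.beq j 0 = false := by
          cases hb : Nat.beq j 0
          · rfl
          · exact absurd (Nat.eq_of_beq_eq_true hb) h0
        rw [hb] at h4
        simp only [Bool.and_eq_true] at h4
        obtain ⟨hp, ha, he⟩ := h4
        have hp := Nat.ble_eq.mp hp
        have ha := Nat.ble_eq.mp ha
        obtain ⟨s, hs, hse⟩ := ih _ hp (by omega)
        have hg := TSift.gen_word VT ha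
        have hw : M.toTab.okWord (D.word (R.ks j)) = true := by
          have h := V.conj_ok _ (hmem j hj).1
          simp only [Cls.checkConj, force_eq, gate_eq, Bool.and_eq_true] at h
          exact h.1
        have e := Nat.eq_of_beq_eq_true he
        rw [TSift.base_el M hg, TSift.tup_el M hw,
          ← (Cls.conj_spec V (hmem _ (by omega : R.par j < R.c)).1).1, TSift.tup_el M hg] at e
        have e := M.inj e
        refine ⟨(M.el (T.gen (R.via j)))⁻¹ * s, S.mul_mem (S.inv_mem (hgen _ ha)) hs, ?_⟩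
        calc (M.el (T.gen (R.via j)))⁻¹ * s * M.el (D.word (R.ks 0)) *
              ((M.el (T.gen (R.via j)))⁻¹ * s)⁻¹
            = (M.el (T.gen (R.via j)))⁻¹ * (s * M.el (D.word (R.ks 0)) * s⁻¹) *
              M.el (T.gen (R.via j)) := by group
          _ = M.el (D.word (R.ks j)) := by rw [hse, mul_assoc, ← e, inv_mul_cancel_left]

end Part

end Cfsg.Agent.LyThree
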