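import Cfsg.Agent.LyThree.ClsData
import Cfsg.Agent.DCoset.Ly.Table

/-! Members of the class are conjugates. -/

set_option Elab.async false
set_option maxRecDepth 100000

namespace Cfsg.Agent.LyThree

open Cfsg.Agent.DCoset Cfsg.Agent.CosetCert

theorem cls_conj_0 : allFrom (Cls.checkConj cls Ly.tab) 0 1000 = true := by
  decide +kernel

theorem cls_conj_1 : allFrom (Cls.checkConj cls Ly.tab) 1000 1000 = true := by
  decide +kernel

theorem cls_conj_2 : allFrom (Cls.checkConj cls Ly.tab) 2000 1000 = true := by
  decide +kernel

theorem cls_conj_3 : allFrom (Cls.checkConj cls Ly.tab) 3000 1000 = true := by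
  decide +kernel

end Cfsg.Agent.LyThree
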