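import Cfsg.Agent.LyThree.ClsData
import Cfsg.Agent.DCoset.Ly.Table

/-! Members of the class are conjugates. -/

set_option Elab.async false
set_option maxRecDepth 100000

namespace Cfsg.Agent.LyThree

open Cfsg.Agent.DCoset Cfsg.Agent.CosetCert

theorem cls_conj_12 : allFrom (Cls.checkConj cls Ly.tab) 12000 1000 = true := by
  decide +kernel

theorem cls_conj_13 : allFrom (Cls.checkConj cls Ly.tab) 13000 1000 = true := by
  decide +kernel

theorem cls_conj_14 : allFrom (Cls.checkConj cls Ly.tab) 14000 1000 = true := by
  decide +kernel

theorem cls_conj_15 : allFrom (Cls.checkConj cls Ly.tab) 15000 500 = true := by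
  decide +kernel

end Cfsg.Agent.LyThree
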