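import Cfsg.Agent.LyThree.ClsSrt
import Cfsg.Agent.LyThree.ClsCheck0
import Cfsg.Agent.LyThree.ClsCheck1
import Cfsg.Agent.LyThree.ClsCheck2
import Cfsg.Agent.LyThree.ClsCheck3

/-! The listed class. -/

set_option Elab.async false
set_option maxRecDepth 100000

namespace Cfsg.Agent.LyThree

open Cfsg.Agent.DCoset Cfsg.Agent.CosetCert

theorem cls_srt : allFrom (Cls.checkSrt cls) 0 15500 = true :=
  (allFrom_append 15000 (allFrom_append 14000 (allFrom_append 13000 (allFrom_append 12000 (allFrom_append 11000 (allFrom_append 10000 (allFrom_append 9000 (allFrom_append 8000 (allFrom_append 7000 (allFrom_append 6000 (allFrom_append 5000 (allFrom_append 4000 (allFrom_append 3000 (allFrom_append 2000 (allFrom_append 1000 cls_srt_0 cls_srt_1) cls_srt_2) cls_srt_3) cls_srt_4) cls_srt_5) cls_srt_6) cls_srt_7) cls_srt_8) cls_srt_9) cls_srt_10) cls_srt_11) cls_srt_12) cls_srt_13) cls_srt_14) cls_srt_15)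

theorem cls_conj : allFrom (Cls.checkConj cls Ly.tab) 0 15500 = true :=
  (allFrom_append 15000 (allFrom_append 14000 (allFrom_append 13000 (allFrom_append 12000 (allFrom_append 11000 (allFrom_append 10000 (allFrom_append 9000 (allFrom_append 8000 (allFrom_append 7000 (allFrom_append 6000 (allFrom_append 5000 (allFrom_append 4000 (allFrom_append 3000 (allFrom_append 2000 (allFrom_append 1000 cls_conj_0 cls_conj_1) cls_conj_2) cls_conj_3) cls_conj_4) cls_conj_5) cls_conj_6) cls_conj_7) cls_conj_8) cls_conj_9) cls_conj_10) cls_conj_11) cls_conj_12) cls_conj_13) cls_conj_14) cls_conj_15)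

theorem cls_n : cls.n = 15500 := rfl

theorem cls_ok : Cls.Ok cls Ly.tab where
  conj_ok i hi := allFrom_all cls_conj (cls_n ▸ hi)
  srt_ok j hj := allFrom_all cls_srt (cls_n ▸ hj)

end Cfsg.Agent.LyThree
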