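import Cfsg.Agent.LyThree.ClsData

/-! The listed tuples increase. -/

set_option Elab.async false
set_option maxRecDepth 100000

namespace Cfsg.Agent.LyThree

open Cfsg.Agent.DCoset Cfsg.Agent.CosetCert

theorem cls_srt_0 : allFrom (Cls.checkSrt cls) 0 1000 = true := by
  decide +kernel

theorem cls_srt_1 : allFrom (Cls.checkSrt cls) 1000 1000 = true := by
  decide +kernel

theorem cls_srt_2 : allFrom (Cls.checkSrt cls) 2000 1000 = true := by
  decide +kernel

theorem cls_srt_3 : allFrom (Cls.checkSrt cls) 3000 1000 = true := by
  decide +kernel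

theorem cls_srt_4 : allFrom (Cls.checkSrt cls) 4000 1000 = true := by
  decide +kernel

theorem cls_srt_5 : allFrom (Cls.checkSrt cls) 5000 1000 = true := by
  decide +kernel

theorem cls_srt_6 : allFrom (Cls.checkSrt cls) 6000 1000 = true := by
  decide +kernel

theorem cls_srt_7 : allFrom (Cls.checkSrt cls) 7000 1000 = true := by
  decide +kernel

theorem cls_srt_8 : allFrom (Cls.checkSrt cls) 8000 1000 = true := by
  decide +kernel

theorem cls_srt_9 : allFrom (Cls.checkSrt cls) 9000 1000 = true := by
  decide +kernel

theorem cls_srt_10 : allFrom (Cls.checkSrt cls) 10000 1000 = true := by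
  decide +kernel

theorem cls_srt_11 : allFrom (Cls.checkSrt cls) 11000 1000 = true := by
  decide +kernel

theorem cls_srt_12 : allFrom (Cls.checkSrt cls) 12000 1000 = true := by
  decide +kernel

theorem cls_srt_13 : allFrom (Cls.checkSrt cls) 13000 1000 = true := by
  decide +kernel

theorem cls_srt_14 : allFrom (Cls.checkSrt cls) 14000 1000 = true := by
  decide +kernel

theorem cls_srt_15 : allFrom (Cls.checkSrt cls) 15000 500 = true := by
  decide +kernel

end Cfsg.Agent.LyThree
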