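import Cfsg.Agent.DCoset.Ly.Model
import Cfsg.Agent.LyLocal.Model

/-!
The subgroup `G2(5)` inside the presented Lyons group, letter by letter.
-/

set_option autoImplicit false
set_option maxRecDepth 100000

namespace Cfsg.Agent.LyThree

open Cfsg.Agent.DCoset Cfsg.Agent.CosetCert Cfsg.Agent.LyMat Cfsg.Spor

theorem iota_exists : ∃ ψ : LyMat.Q →* LyLocal.P, ∀ i : Fin 10,
    ψ (PresentedGroup.of i) = PresentedGroup.of (LyChain1.ren i) := by
  obtain ⟨ψ, hψ⟩ := exists_rename (rels := lyRels) LyChain1.relWords LyChain1.ren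
    (one_of_ok (by decide +kernel))
  refine ⟨ψ, fun i => (hψ (FreeGroup.of i)).trans ?_⟩
  rw [FreeGroup.map.of]
  rfl

/-- The map into the presented group. -/
noncomputable def iota : LyMat.Q →* LyLocal.P := iota_exists.choose

theorem iota_of (i : Fin 10) : iota (PresentedGroup.of i) = PresentedGroup.of (LyChain1.ren i) :=
  iota_exists.choose_spec i

/-- The code of a letter of the subgroup among the ten letters of the group. -/
def conv (g : Nat) : Nat := if g < 4 then g else g + 1

/-- The letters of a packed word, spelled in the ten letters. -/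
def lets : Nat → Nat → List Nat
  | 0, _ => []
  | n + 1, b => conv (b % 256) :: lets n (b / 256)

/-- The letters of a packed word. -/
def pLets (w : Nat) : List Nat := lets (w % 65536) (w / 65536)

theorem el_low {x : Nat} (hx : x < 10) : LyLocal.el x = LyLocal.base x := by
  rw [LyLocal.el, LyLocal.elF]
  simp [hx]

theorem iota_q {g : Nat} (hg : g < 8) : iota (Ly.model.q g) = LyLocal.el (conv g) := by
  rw [el_low (by unfold conv; split <;> omega)]
  show iota (Ly.qL g) = _
  interval_cases g <;> simp only [Ly.qL, conv, LyLocal.base, map_inv, iota_of, if_true, if_false,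
    Nat.reduceLT, Nat.reduceSub, Nat.reduceAdd] <;> rfl

theorem iota_valW : ∀ n b, lettersBelow Ly.model.nL n b = true →
    iota (valW Ly.model.q n b) = LyLocal.elW (lets n b)
  | 0, _, _ => by simp [valW, lets, LyLocal.elW]
  | n + 1, b, h => by
    rw [lettersBelow_succ, Bool.and_eq_true] at h
    rw [valW, map_mul, lets, iota_q (Nat.ble_eq.mp h.1), iota_valW n _ h.2]
    simp [LyLocal.elW]

theorem iota_el {w : Nat} (hw : Ly.model.toTab.okWord w = true) :
    iota (Ly.model.el w) = LyLocal.elW (pLets w) :=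
  iota_valW _ _ hw

theorem lets_lt : ∀ n b, lettersBelow Ly.model.nL n b = true → ∀ x ∈ lets n b, x < 10
  | 0, _, _ => by simp [lets]
  | n + 1, b, h => by
    rw [lettersBelow_succ, Bool.and_eq_true] at h
    have hb : b % 256 < 8 := Nat.ble_eq.mp h.1
    intro x hx
    rcases List.mem_cons.1 hx with rfl | hx
    · unfold conv; split <;> omega
    · exact lets_lt n _ h.2 x hx

theorem pLets_lt {w : Nat} (hw : Ly.model.toTab.okWord w = true) : ∀ x ∈ pLets w, x < 10 :=
  lets_lt _ _ hw

theorem all_lt {l : List Nat} (h : ∀ x ∈ l, x < 10) : l.all (fun x => Nat.blt x 28) = true := by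
  rw [List.all_eq_true]
  intro x hx
  exact Nat.ble_eq.mpr (by have := h x hx; omega)

theorem elW_append (u v : List Nat) : LyLocal.elW (u ++ v) = LyLocal.elW u * LyLocal.elW v := by
  simp [LyLocal.elW]

/-- Every element of the subgroup is a product of the eight letters. -/
theorem q_letters : Subgroup.closure {x | ∃ g, g < 8 ∧ x = Ly.model.q g} = ⊤ := by
  have := LyMat.q_card.1
  set S := Subgroup.closure {x | ∃ g, g < 8 ∧ x = Ly.model.q g}
  have hval : ∀ n b, lettersBelow Ly.model.nL n b = true → valW Ly.model.q n b ∈ S := by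
    intro n
    induction n with
    | zero => intro b _; simp [valW]
    | succ n ih =>
      intro b h
      rw [lettersBelow_succ, Bool.and_eq_true] at h
      exact S.mul_mem (Subgroup.subset_closure ⟨_, Nat.ble_eq.mp h.1, rfl⟩) (ih _ h.2)
  have hc := Ly.model.card_ge S Ly.qChain (fun l a hl ha => by
      have h := allFrom_all (allFrom_all Ly.qChain_gen hl :) ha
      simp only [QModel.checkGen, force_eq, gate_eq, Bool.and_eq_true] at h
      exact hval _ _ h.1)
    (fun l a hl ha => allFrom_all (allFrom_all Ly.qChain_gen hl :) ha)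
    (fun l j hl hj => allFrom_all (allFrom_all Ly.qChain_pt hl :) hj)
  rw [show ((List.range Ly.model.k).map Ly.qChain.size).prod = 5859000000 from Ly.qChain_prod] at hc
  refine Subgroup.eq_top_of_card_eq _ (le_antisymm ?_ (LyMat.q_card.2.trans hc))
  exact Nat.card_le_card_of_injective (Subtype.val : S → LyMat.Q) Subtype.val_injective

theorem range_iota : iota.range =
    (Subgroup.closure ({Ly.a, Ly.b, Ly.c, Ly.d} : Set (FreeGroup Ly.Gen))).map
      (PresentedGroup.mk lyRels) := by
  apply le_antisymm
  · rw [MonoidHom.range_eq_map, ← q_letters, MonoidHom.map_closure, Subgroup.closure_le]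
    rintro _ ⟨_, ⟨g, hg, rfl⟩, rfl⟩
    show iota (Ly.qL g) ∈ _
    rw [Ly.qL]
    split
    · rw [iota_of]; exact gen_mem _
    · rw [map_inv, iota_of]; exact inv_mem (gen_mem _)
  · rw [MonoidHom.map_closure, Subgroup.closure_le]
    rintro _ ⟨x, hx, rfl⟩
    rcases hx with rfl | rfl | rfl | rfl
    exacts [⟨_, iota_of 0⟩, ⟨_, iota_of 1⟩, ⟨_, iota_of 2⟩, ⟨_, iota_of 3⟩]

theorem iota_injective : Function.Injective iota := by
  obtain ⟨e⟩ := q_iso
  have : IsSimpleGroup ↥(Cfsg.Lie.chevG2.group (ZMod 5)) :=
    (Chev.g2_simple (ZMod 5) ⟨2, by decide, by decide⟩).1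
  have : IsSimpleGroup LyMat.Q := e.isSimpleGroup
  rcases iota.normal_ker.eq_bot_or_eq_top with h | h
  · exact (MonoidHom.ker_eq_bot_iff iota).1 h
  · exfalso
    have h1 : iota (PresentedGroup.of (0 : Fin 10)) = 1 := MonoidHom.mem_ker.1 (h ▸ Subgroup.mem_top _)
    rw [iota_of] at h1
    exact of_a_ne h1

end Cfsg.Agent.LyThree
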