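import Cfsg.Agent.LyThree.Node2Data
import Cfsg.Agent.LyThree.ClsData
import Cfsg.Agent.LyThree.Iota
import Cfsg.Agent.LyLocal.Same

/-! The equations of node 2, decided in degree 111. -/

set_option Elab.async false
set_option maxRecDepth 100000

namespace Cfsg.Agent.LyThree

open Cfsg.Agent.DCoset Cfsg.Agent.CosetCert

theorem n2_eq_0 : LyLocal.sameB (node2.g ++ pLets (node2.T.gen 0))
    (pLets (node2.img 0) ++ node2.g) = true := by
  decide +kernel

theorem n2_eq_1 : LyLocal.sameB (node2.g ++ pLets (node2.T.gen 1))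
    (pLets (node2.img 1) ++ node2.g) = true := by
  decide +kernel

theorem n2_eq_2 : LyLocal.sameB (node2.g ++ pLets (node2.T.gen 2))
    (pLets (node2.img 2) ++ node2.g) = true := by
  decide +kernel

theorem n2_eq_3 : LyLocal.sameB (node2.g ++ pLets (node2.T.gen 3))
    (pLets (node2.img 3) ++ node2.g) = true := by
  decide +kernel

theorem n2_xeq : LyLocal.sameB (node2.g ++ pLets (cls.word (node2.R.ks 0)))
    (pLets (cls.word node2.cy) ++ node2.g) = true := by
  decide +kernel

theorem n2_eqs : ∀ i, i < node2.n0 → LyLocal.sameB (node2.g ++ pLets (node2.T.gen i))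
    (pLets (node2.img i) ++ node2.g) = true := by
  intro i hi
  change i < 4 at hi
  interval_cases i
  · exact n2_eq_0
  · exact n2_eq_1
  · exact n2_eq_2
  · exact n2_eq_3

end Cfsg.Agent.LyThree
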