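import Cfsg.Agent.LyThree.Node4Data
import Cfsg.Agent.LyThree.ClsData
import Cfsg.Agent.DCoset.Ly.Table

/-! The data of node 4 are valid in the model. -/

set_option Elab.async false
set_option maxRecDepth 100000

namespace Cfsg.Agent.LyThree

open Cfsg.Agent.DCoset Cfsg.Agent.CosetCert

theorem n4_rep : allFrom (fun l => allFrom (TSift.checkRep n4T Ly.tab l) 0 (n4T.size l)) 0 4 = true := by
  decide +kernel

theorem n4_gens : TSift.checkGens n4T Ly.tab = true := by
  decide +kernel

theorem n4_inv : allFrom (Node.checkInv node4 Ly.tab) 0 3 = true := by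
  decide +kernel

theorem n4_expr : allFrom (Node.checkExpr node4 Ly.tab) 0 4 = true := by
  decide +kernel

theorem n4_mem : allFrom (Part.checkMem n4R cls n4T Ly.tab) 0 2 = true := by
  decide +kernel

theorem n4_all_0 : allFrom (Part.checkAll n4R cls n4T Ly.tab) 0 1000 = true := by
  decide +kernel

theorem n4_all_1 : allFrom (Part.checkAll n4R cls n4T Ly.tab) 1000 1000 = true := by
  decide +kernel

theorem n4_all_2 : allFrom (Part.checkAll n4R cls n4T Ly.tab) 2000 1000 = true := by
  decide +kernel

theorem n4_all_3 : allFrom (Part.checkAll n4R cls n4T Ly.tab) 3000 1000 = true := by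
  decide +kernel

theorem n4_all_4 : allFrom (Part.checkAll n4R cls n4T Ly.tab) 4000 1000 = true := by
  decide +kernel

theorem n4_all_5 : allFrom (Part.checkAll n4R cls n4T Ly.tab) 5000 1000 = true := by
  decide +kernel

theorem n4_all_6 : allFrom (Part.checkAll n4R cls n4T Ly.tab) 6000 1000 = true := by
  decide +kernel

theorem n4_all_7 : allFrom (Part.checkAll n4R cls n4T Ly.tab) 7000 1000 = true := by
  decide +kernel

theorem n4_all_8 : allFrom (Part.checkAll n4R cls n4T Ly.tab) 8000 1000 = true := by
  decide +kernel

theorem n4_all_9 : allFrom (Part.checkAll n4R cls n4T Ly.tab) 9000 1000 = true := by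
  decide +kernel

theorem n4_all_10 : allFrom (Part.checkAll n4R cls n4T Ly.tab) 10000 1000 = true := by
  decide +kernel

theorem n4_all_11 : allFrom (Part.checkAll n4R cls n4T Ly.tab) 11000 1000 = true := by
  decide +kernel

theorem n4_all_12 : allFrom (Part.checkAll n4R cls n4T Ly.tab) 12000 1000 = true := by
  decide +kernel

theorem n4_all_13 : allFrom (Part.checkAll n4R cls n4T Ly.tab) 13000 1000 = true := by
  decide +kernel

theorem n4_all_14 : allFrom (Part.checkAll n4R cls n4T Ly.tab) 14000 1000 = true := by
  decide +kernel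

theorem n4_all_15 : allFrom (Part.checkAll n4R cls n4T Ly.tab) 15000 500 = true := by
  decide +kernel

theorem n4_all : allFrom (Part.checkAll n4R cls n4T Ly.tab) 0 15500 = true :=
  (allFrom_append 15000 (allFrom_append 14000 (allFrom_append 13000 (allFrom_append 12000 (allFrom_append 11000 (allFrom_append 10000 (allFrom_append 9000 (allFrom_append 8000 (allFrom_append 7000 (allFrom_append 6000 (allFrom_append 5000 (allFrom_append 4000 (allFrom_append 3000 (allFrom_append 2000 (allFrom_append 1000 n4_all_0 n4_all_1) n4_all_2) n4_all_3) n4_all_4) n4_all_5) n4_all_6) n4_all_7) n4_all_8) n4_all_9) n4_all_10) n4_all_11) n4_all_12) n4_all_13) n4_all_14) n4_all_15)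

theorem n4_prod : ((List.range Ly.tab.k).map n4T.size).prod = 1008 := by
  decide +kernel

theorem node4_ok : Node.Ok node4 Ly.tab cls where
  t_ok :=
    { rep_ok := fun l _ hl h => allFrom_all (allFrom_all n4_rep hl :) h
      gen_ok := n4_gens }
  r_ok :=
    { pos_c := by decide
      all_ok := fun _ h => allFrom_all n4_all ((show cls.n = 15500 from rfl) ▸ h)
      mem_ok := fun _ h => allFrom_all n4_mem h }
  le := by decide
  inv_ok := fun _ h => allFrom_all n4_inv h
  expr_ok := fun a h => allFrom_all n4_expr (show a < 4 from h)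
  cy_lt := by decide
  g_lt := by decide

end Cfsg.Agent.LyThree
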