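import Cfsg.Agent.LyThree.Node2Data
import Cfsg.Agent.LyThree.Node3Data
import Cfsg.Agent.LyThree.Node4Data
import Cfsg.Agent.LyThree.ClsData
import Cfsg.Agent.DCoset.Ly.Table

/-! Elements of small order in the node stabilisers. -/

set_option Elab.async false
set_option maxRecDepth 100000

namespace Cfsg.Agent.LyThree

open Cfsg.Agent.DCoset Cfsg.Agent.CosetCert

theorem n2_seven : checkRoot n2T Ly.tab 7 (node2.sp 0) = true := by decide +kernel

theorem n3_five : checkRoot n3T Ly.tab 5 (node3.sp 2) = true := by decide +kernel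

theorem n3_three : checkRoot n3T Ly.tab 3 (node3.sp 0) = true ∧ checkRoot n3T Ly.tab 3 (node3.sp 1) = true := by
  decide +kernel

theorem n3_indep :
    Nat.beq (Ly.tab.app (Ly.tab.app Ly.tab.base (node3.sp 0)) (node3.sp 1))
      (Ly.tab.app (Ly.tab.app Ly.tab.base (node3.sp 1)) (node3.sp 0)) = true ∧
    Nat.beq (Ly.tab.app Ly.tab.base (node3.sp 1)) (Ly.tab.app Ly.tab.base (node3.sp 0)) = false ∧
    Nat.beq (Ly.tab.app Ly.tab.base (node3.sp 1))
      (Ly.tab.app (Ly.tab.app Ly.tab.base (node3.sp 0)) (node3.sp 0)) = false := by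
  decide +kernel

theorem n4_seven : checkRoot n4T Ly.tab 7 (node4.sp 0) = true ∧ checkRoot n4T Ly.tab 7 (node4.sp 1) = true := by
  decide +kernel

theorem n4_comm :
    Nat.beq (Ly.tab.app (Ly.tab.app Ly.tab.base (node4.sp 1)) (cls.word (node4.R.ks 0)))
      (Ly.tab.app (Ly.tab.app Ly.tab.base (cls.word (node4.R.ks 0))) (node4.sp 1)) = true := by
  decide +kernel

end Cfsg.Agent.LyThree
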