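import Cfsg.Agent.LyThree.WData
import Cfsg.Agent.LyThree.Iota

/-!
Elements of the subgroup keep a subspace of dimension seven; the node representatives do not.
-/

set_option autoImplicit false
set_option maxRecDepth 100000

namespace Cfsg.Agent.LyThree

open Cfsg.Agent.DCoset Cfsg.Agent.CosetCert Cfsg.Agent.LyMat

/-- The rows of the subspace. -/
def wRows : List Nat := rowsOf 111 wB

/-- The subspace is kept by a letter. -/
noncomputable def keepB (t : Nat) : Bool :=
  mulK mask111 wRows (LyLocal.mm (conv t)) fun P =>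
    mulK mask111 (rowsOf 111 (cB t)) wB fun P' => eqB P P'

/-- A functional killing the subspace, not killing its image under a word. -/
noncomputable def movesB (g : List Nat) (u : List Blk) : Bool :=
  mulK mask111 wRows u (fun Z => Z.all fun r => Nat.beq r 0) &&
    wordK mask111 LyLocal.mm g wRows fun P => mulK mask111 P u fun Z => !(Z.all fun r => Nat.beq r 0)

theorem toMat_zero {Z : List Nat} (h : Z.all (fun r => Nat.beq r 0) = true) : toMat 111 Z = 0 := by
  ext i j
  rw [List.all_eq_true] at h
  have e : Z.getD i 0 = 0 := by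
    rcases Nat.lt_or_ge i.val Z.length with hi | hi
    · rw [List.getD_eq_getElem _ _ hi]
      exact Nat.eq_of_beq_eq_true (h _ (List.getElem_mem _))
    · exact List.getD_eq_default _ _ hi
  simp only [toMat, Matrix.of_apply, e, Matrix.zero_apply]
  simp [fieldN]

theorem zero_of_toMat {Z : List Nat} (hg : Good 111 Z) (h : toMat 111 Z = 0) :
    Z.all (fun r => Nat.beq r 0) = true := by
  rw [List.all_eq_true]
  intro r hr
  obtain ⟨i, hi, rfl⟩ := List.mem_iff_getElem.1 hr
  obtain ⟨f, hf, e⟩ := hg.2 _ hr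
  have hi' : i < 111 := hg.1 ▸ hi
  have : ∀ j, j < 111 → f j = 0 := by
    intro j hj
    have h1 := congrFun (congrFun h ⟨i, hi'⟩) ⟨j, hj⟩
    simp only [toMat, Matrix.of_apply, Matrix.zero_apply] at h1
    rw [List.getD_eq_getElem _ _ hi, e,
      field_pk 111 f (fun k _ => (hf k).trans (by norm_num)) j hj,
      ZMod.natCast_eq_zero_iff] at h1
    exact Nat.eq_zero_of_dvd_of_lt h1 (hf j)
  rw [e, pk_congr 111 this, pk_zero]
  exact Nat.beq_refl 0

theorem w_good : goodC 111 wRows = true := by decide +kernel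

theorem c_good : allFrom (fun t => goodC 111 (rowsOf 111 (cB t))) 0 8 = true := by decide +kernel

theorem keep_all : allFrom keepB 0 8 = true := by decide +kernel

/-- An element of the subgroup keeps the subspace. -/
theorem keeps (q : LyMat.Q) : ∃ C : Matrix (Fin 111) (Fin 111) (ZMod 5),
    toMat 111 wRows * LyLocal.rep (iota q) = C * toMat 111 wRows := by
  have hW : Good 111 wRows := good_of_check w_good
  let S : Submonoid LyMat.Q :=
    { carrier := {q | ∃ C : Matrix (Fin 111) (Fin 111) (ZMod 5),
        toMat 111 wRows * LyLocal.rep (iota q) = C * toMat 111 wRows}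
      one_mem' := ⟨1, by simp⟩
      mul_mem' := fun {a b} ⟨C, hC⟩ ⟨D, hD⟩ => ⟨C * D, by
        rw [map_mul, map_mul, ← mul_assoc, hC, mul_assoc, hD, mul_assoc]⟩ }
  have hgen : ∀ g, g < 8 → Ly.model.q g ∈ S := by
    intro g hg
    have hx : conv g < 10 := by unfold conv; split <;> omega
    refine ⟨toMat 111 (rowsOf 111 (cB g)), ?_⟩
    rw [iota_q hg, el_low hx, LyLocal.rep_base _ hx]
    have h := (allFrom_iff _ _ _).1 keep_all g (Nat.zero_le _) (by omega)
    have hc := good_of_check ((allFrom_iff _ _ _).1 c_good g (Nat.zero_le _) (by omega))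
    rw [keepB, mulK_eq, mulK_eq, mask111_eq] at h
    have e := eqB_eq h
    show toMat 111 wRows * toMat 111 (rowsOf 111 (LyLocal.mm (conv g))) = _
    rw [← (mul_spec (by norm_num) hW (LyLocal.good_mm _)).2, e,
      (mul_spec (B := wB) (by norm_num) hc hW).2]
    rfl
  have : q ∈ S := by
    have := LyMat.q_card.1
    have hq : q ∈ (Subgroup.closure {x | ∃ g, g < 8 ∧ x = Ly.model.q g}).toSubmonoid := by
      rw [q_letters]; trivial
    rw [Subgroup.closure_toSubmonoid_of_finite] at hq
    exact Submonoid.closure_le.2 (by rintro _ ⟨g, hg, rfl⟩; exact hgen g hg) hq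
  exact this

/-- A word with a witness is outside the subgroup. -/
theorem not_mem_range {g : List Nat} {u : List Blk} (hg : ∀ x ∈ g, x < 10)
    (hu : goodC 111 (rowsOf 111 u) = true) (h : movesB g u = true) :
    LyLocal.elW g ∉ iota.range := by
  rintro ⟨q, hq⟩
  obtain ⟨C, hC⟩ := keeps q
  rw [hq, LyLocal.rep_elW g (all_lt hg)] at hC
  have hW : Good 111 wRows := good_of_check w_good
  have hu := good_of_check hu
  rw [movesB, Bool.and_eq_true, mulK_eq, mask111_eq] at h
  obtain ⟨h1, h2⟩ := h
  obtain ⟨P, hP, hPe, hk⟩ := wordK_spec (n := 111) (by norm_num) LyLocal.mm LyLocal.good_mm g wRows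
    (fun P => mulK (maskF 111) P u fun Z => !(Z.all fun r => Nat.beq r 0)) hW
  rw [hk, mulK_eq] at h2
  obtain ⟨hZ, hZe⟩ := mul_spec (by norm_num) hP hu
  have e1 : toMat 111 wRows * toMat 111 (rowsOf 111 u) = 0 := by
    rw [← (mul_spec (by norm_num) hW hu).2]
    exact toMat_zero h1
  have e2 := zero_of_toMat hZ (by
    rw [hZe, hPe]
    show toMat 111 wRows * (g.map LyLocal.MM).prod * _ = 0
    rw [hC, mul_assoc, e1, mul_zero])
  rw [e2] at h2
  exact Bool.noConfusion h2

theorem u_good : goodC 111 (rowsOf 111 uB1) = true ∧ goodC 111 (rowsOf 111 uB2) = true ∧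
    goodC 111 (rowsOf 111 uB3) = true ∧ goodC 111 (rowsOf 111 uB4) = true := by
  decide +kernel

end Cfsg.Agent.LyThree
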