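import Cfsg.Agent.LyThree.Place
import Cfsg.Agent.LyThree.Special
import Cfsg.Agent.LyThree.Sub
import Cfsg.Agent.LyThree.Node1Ok
import Cfsg.Agent.LyThree.Node2Ok
import Cfsg.Agent.LyThree.Node3Ok
import Cfsg.Agent.LyThree.Node4Ok
import Cfsg.Agent.LyThree.Node1Eq
import Cfsg.Agent.LyThree.Node2Eq
import Cfsg.Agent.LyThree.Node3Eq
import Cfsg.Agent.LyThree.Node4Eq

/-!
Each node lies in the orbit with its stabiliser order.
-/

set_option autoImplicit false
set_option maxRecDepth 100000

namespace Cfsg.Agent.LyThree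

open Cfsg.Agent.DCoset Cfsg.Agent.CosetCert

theorem node1_out : LyLocal.elW node1.g ∉ iota.range :=
  not_mem_range node1_ok.g_lt u_good.1 (by decide +kernel)

theorem node2_out : LyLocal.elW node2.g ∉ iota.range :=
  not_mem_range node2_ok.g_lt u_good.2.1 (by decide +kernel)

theorem node3_out : LyLocal.elW node3.g ∉ iota.range :=
  not_mem_range node3_ok.g_lt u_good.2.2.1 (by decide +kernel)

theorem node4_out : LyLocal.elW node4.g ∉ iota.range :=
  not_mem_range node4_ok.g_lt u_good.2.2.2 (by decide +kernel)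

/-- A prime order element gives a divisor of the order. -/
theorem dvd_of_root {S : Subgroup LyMat.Q} {p : Nat} [Fact p.Prime] {a : LyMat.Q} (ha : a ∈ S)
    (hp : a ^ p = 1) (h1 : a ≠ 1) : p ∣ Nat.card S :=
  orderOf_eq_prime hp h1 ▸ Subgroup.orderOf_dvd_natCard _ ha

variable [IsSimpleGroup LyLocal.P]

theorem locate1 (O : Orbits) : Nat.card (St (ptN node1)) = 300000 ∧ ∃ q, ptN node1 = iota q • O.pt 1 := by
  obtain ⟨m, hm, q, hq⟩ := node_orbit O node1_out
  have hge := node_ge node1_ok n1_eqs (show ((List.range Ly.tab.k).map node1.T.size).prod = 300000 from n1_prod)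
  have hc : Nat.card (St (ptN node1)) = ![5859000000, 300000, 6048, 2880, 1008] m := by
    rw [hq, card_St_smul, O.card]
  fin_cases m <;> simp at hm hc
  · exact ⟨hc, q, hq⟩
  all_goals omega

theorem locate2 (O : Orbits) : Nat.card (St (ptN node2)) = 6048 ∧ ∃ q, ptN node2 = iota q • O.pt 2 := by
  obtain ⟨m, hm, q, hq⟩ := node_orbit O node2_out
  have hge := node_ge node2_ok n2_eqs (show ((List.range Ly.tab.k).map node2.T.size).prod = 6048 from n2_prod)
  have hc : Nat.card (St (ptN node2)) = ![5859000000, 300000, 6048, 2880, 1008] m := by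
    rw [hq, card_St_smul, O.card]
  haveI : Fact (Nat.Prime 7) := ⟨by norm_num⟩
  obtain ⟨-, h1, h2, h3⟩ := root_spec node2_ok.t_ok _ (node_mem node2_ok n2_eqs) n2_seven
  have h7 := dvd_of_root h1 h2 h3
  fin_cases m <;> simp at hm hc
  · exfalso; rw [hc] at h7; norm_num at h7
  · exact ⟨hc, q, hq⟩
  all_goals omega

theorem locate3 (O : Orbits) : Nat.card (St (ptN node3)) = 2880 ∧ ∃ q, ptN node3 = iota q • O.pt 3 := by
  obtain ⟨m, hm, q, hq⟩ := node_orbit O node3_out
  have hge := node_ge node3_ok n3_eqs (show ((List.range Ly.tab.k).map node3.T.size).prod = 2880 from n3_prod)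
  have hc : Nat.card (St (ptN node3)) = ![5859000000, 300000, 6048, 2880, 1008] m := by
    rw [hq, card_St_smul, O.card]
  haveI : Fact (Nat.Prime 5) := ⟨by norm_num⟩
  haveI : Fact (Nat.Prime 3) := ⟨by norm_num⟩
  have hgen := node_mem node3_ok n3_eqs
  obtain ⟨-, h1, h2, h3⟩ := root_spec node3_ok.t_ok _ hgen n3_five
  have h5 := dvd_of_root h1 h2 h3
  obtain ⟨wa, a1, a2, a3⟩ := root_spec node3_ok.t_ok _ hgen n3_three.1
  obtain ⟨wb, b1, b2, b3⟩ := root_spec node3_ok.t_ok _ hgen n3_three.2
  have h9 : 9 ∣ Nat.card (St (ptN node3)) := by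
    set a := Ly.model.el (node3.sp 0)
    set b := Ly.model.el (node3.sp 1)
    obtain ⟨e1, e2, e3⟩ := n3_indep
    change Nat.beq (Ly.model.toTab.app (Ly.model.toTab.app Ly.model.toTab.base _) _)
      (Ly.model.toTab.app (Ly.model.toTab.app Ly.model.toTab.base _) _) = true at e1
    change Nat.beq (Ly.model.toTab.app Ly.model.toTab.base _) (Ly.model.toTab.app Ly.model.toTab.base _) = false at e2
    change Nat.beq (Ly.model.toTab.app Ly.model.toTab.base _)
      (Ly.model.toTab.app (Ly.model.toTab.app Ly.model.toTab.base _) _) = false at e3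
    rw [TSift.base_el _ wa, TSift.base_el _ wb, TSift.tup_el _ wa, TSift.tup_el _ wb] at e1
    rw [TSift.base_el _ wa, TSift.base_el _ wb] at e2
    rw [TSift.base_el _ wa, TSift.base_el _ wb, TSift.tup_el _ wa] at e3
    have hab : Commute a b := Ly.model.inj (Nat.eq_of_beq_eq_true e1)
    have hb : b ∉ Subgroup.zpowers a := by
      intro hb
      classical
      rw [mem_zpowers_iff_mem_range_orderOf, orderOf_eq_prime a2 a3] at hb
      simp only [Finset.mem_image, Finset.mem_range] at hb
      obtain ⟨i, hi, hib⟩ := hb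
      interval_cases i
      · rw [pow_zero] at hib; exact b3 hib.symm
      · rw [pow_one] at hib
        have h' : Nat.beq (Ly.model.tup b) (Ly.model.tup a) = true := by rw [hib]; exact Nat.beq_refl _
        exact Bool.noConfusion (e2.symm.trans h')
      · rw [pow_two] at hib
        have h' : Nat.beq (Ly.model.tup b) (Ly.model.tup (a * a)) = true := by rw [hib]; exact Nat.beq_refl _
        exact Bool.noConfusion (e3.symm.trans h')
    have hcomm : ∀ (u : Subgroup.zpowers a) (v : Subgroup.zpowers b),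
        Commute ((Subgroup.zpowers a).subtype u) ((Subgroup.zpowers b).subtype v) := by
      rintro ⟨_, i, rfl⟩ ⟨_, j, rfl⟩
      exact hab.zpow_zpow i j
    let φ := MonoidHom.noncommCoprod (Subgroup.zpowers a).subtype (Subgroup.zpowers b).subtype hcomm
    have hcb : Nat.card (Subgroup.zpowers b) = 3 := by
      rw [Nat.card_zpowers, orderOf_eq_prime b2 b3]
    have hinj : Function.Injective φ := by
      rw [injective_iff_map_eq_one]
      rintro ⟨⟨u, hu⟩, ⟨v, hv⟩⟩ h
      have h : u * v = 1 := h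
      have hvu : v ∈ Subgroup.zpowers a := by
        rw [eq_inv_of_mul_eq_one_right h]; exact inv_mem hu
      have hv1 : v = 1 := by
        by_contra hne
        refine hb ?_
        have hgen : Subgroup.zpowers (⟨v, hv⟩ : Subgroup.zpowers b) = ⊤ :=
          zpowers_eq_top_of_prime_card hcb (fun e => hne (congrArg Subtype.val e))
        obtain ⟨i, hi⟩ := (hgen.symm ▸ Subgroup.mem_top (⟨b, Subgroup.mem_zpowers b⟩ : Subgroup.zpowers b) :
          (⟨b, Subgroup.mem_zpowers b⟩ : Subgroup.zpowers b) ∈ Subgroup.zpowers (⟨v, hv⟩ : Subgroup.zpowers b))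
        have hi' : v ^ i = b := congrArg Subtype.val hi
        exact hi' ▸ zpow_mem hvu i
      subst hv1
      rw [mul_one] at h
      exact Prod.ext (Subtype.ext h) (Subtype.ext rfl)
    have hle : φ.range ≤ St (ptN node3) := by
      rintro _ ⟨⟨⟨u, hu⟩, ⟨v, hv⟩⟩, rfl⟩
      exact mul_mem (Subgroup.zpowers_le.2 a1 hu) (Subgroup.zpowers_le.2 b1 hv)
    have := Subgroup.card_dvd_of_le hle
    rwa [← Nat.card_congr (MonoidHom.ofInjective hinj).toEquiv, Nat.card_prod, hcb,
      Nat.card_zpowers, orderOf_eq_prime a2 a3] at this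
  fin_cases m <;> simp at hm hc
  · exfalso; rw [hc] at h9; norm_num at h9
  · exfalso; rw [hc] at h5; norm_num at h5
  · exact ⟨hc, q, hq⟩
  all_goals omega

/-- The class members in a node stabiliser of known order. -/
theorem node_part {D : Node} (V : Node.Ok D Ly.model.toTab cls)
    (he : ∀ i, i < D.n0 →
      LyLocal.sameB (D.g ++ pLets (D.T.gen i)) (pLets (D.img i) ++ D.g) = true) {n : Nat}
    (hn : ((List.range Ly.tab.k).map D.T.size).prod = n) (hs : Nat.card (St (ptN D)) = n) :
    Nat.card {s : LyMat.Q // s ∈ St (ptN D) ∧ IsConj xQ s} = D.R.c ∧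
      Ly.model.el (cls.word (D.R.ks 0)) ∈ St (ptN D) ∧
      ∀ y ∈ St (ptN D), IsConj xQ y →
        ∃ s ∈ St (ptN D), s * Ly.model.el (cls.word (D.R.ks 0)) * s⁻¹ = y := by
  have h := Part.spec V.r_ok cls_ok V.t_ok (St (ptN D)) (node_mem V he)
    (by rw [hs, ← hn]; exact le_rfl) (by rw [xQ_eq]; exact cls_complete.2)
  rw [xQ_eq] at h
  exact h

theorem member_conj {D : Node} (V : Node.Ok D Ly.model.toTab cls) :
    D.R.ks 0 < cls.n ∧ IsConj xQ (Ly.model.el (cls.word (D.R.ks 0))) := by
  have h := V.r_ok.mem_ok 0 V.r_ok.pos_c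
  simp only [Part.checkMem, force_eq, gate_eq, Bool.and_eq_true] at h
  have hlt := Nat.ble_eq.mp h.1
  refine ⟨hlt, ?_⟩
  rw [← xQ_eq]
  exact Cls.isConj cls_ok _ hlt

theorem locate4 (O : Orbits) : Nat.card (St (ptN node4)) = 1008 ∧ ∃ q, ptN node4 = iota q • O.pt 4 := by
  obtain ⟨m, hm, q, hq⟩ := node_orbit O node4_out
  have hge := node_ge node4_ok n4_eqs (show ((List.range Ly.tab.k).map node4.T.size).prod = 1008 from n4_prod)
  have hc : Nat.card (St (ptN node4)) = ![5859000000, 300000, 6048, 2880, 1008] m := by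
    rw [hq, card_St_smul, O.card]
  haveI : Fact (Nat.Prime 7) := ⟨by norm_num⟩
  have hgen := node_mem node4_ok n4_eqs
  obtain ⟨-, h1, h2, h3⟩ := root_spec node4_ok.t_ok _ hgen n4_seven.1
  have h7 := dvd_of_root h1 h2 h3
  have hnot2 : m ≠ 2 := by
    intro hm2
    subst hm2
    obtain ⟨hc2, q2, hq2⟩ := locate2 O
    obtain ⟨ws, s1, s2, s3⟩ := root_spec node4_ok.t_ok _ hgen n4_seven.2
    obtain ⟨hcard2, hy2, htr2⟩ := node_part node2_ok n2_eqs n2_prod hc2
    obtain ⟨hlt, hcx⟩ := member_conj node4_ok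
    have hwy : Ly.model.toTab.okWord (cls.word (node4.R.ks 0)) = true := by
      have h := cls_ok.conj_ok _ hlt
      simp only [Cls.checkConj, force_eq, gate_eq, Bool.and_eq_true] at h
      exact h.1
    have hmem4 : Ly.model.el (cls.word (node4.R.ks 0)) ∈ St (ptN node4) := by
      have hk := node4_ok.r_ok.mem_ok 0 node4_ok.r_ok.pos_c
      simp only [Part.checkMem, force_eq, gate_eq, Bool.and_eq_true] at hk
      refine TSift.sift_mem node4_ok.t_ok _ hgen _ 0 (Nat.zero_add _).le _ ?_
      rw [(Cls.conj_spec cls_ok hlt).1]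
      exact hk.2.1
    have hsy : Commute (Ly.model.el (node4.sp 1)) (Ly.model.el (cls.word (node4.R.ks 0))) := by
      have e := Nat.eq_of_beq_eq_true n4_comm
      change Ly.model.toTab.app (Ly.model.toTab.app Ly.model.toTab.base _) _ =
        Ly.model.toTab.app (Ly.model.toTab.app Ly.model.toTab.base _) _ at e
      rw [TSift.base_el _ ws, TSift.base_el _ hwy, TSift.tup_el _ ws, TSift.tup_el _ hwy] at e
      exact Ly.model.inj e
    set t := q * q2⁻¹
    have ht : ptN node4 = iota t • ptN node2 := by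
      rw [hq, hq2, ← mul_smul, ← map_mul, inv_mul_cancel_right]
    rw [ht, St_smul] at hmem4 s1
    set y := t⁻¹ * Ly.model.el (cls.word (node4.R.ks 0)) * t
    set s := t⁻¹ * Ly.model.el (node4.sp 1) * t
    have hyc : IsConj xQ y := hcx.trans (isConj_iff.2 ⟨t⁻¹, by rw [inv_inv]⟩)
    have h108 := cent_mul hmem4 hyc hcard2 (fun z hz hzc => by
      obtain ⟨u, hu, hue⟩ := htr2 y hmem4 hyc
      obtain ⟨v, hv, hve⟩ := htr2 z hz hzc
      refine ⟨v * u⁻¹, mul_mem hv (inv_mem hu), ?_⟩
      rw [← hue, ← hve]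
      group)
    rw [hc2, show node2.R.c = 56 from rfl] at h108
    have hs7 : (⟨s, s1⟩ : St (ptN node2)) ∈
        (Subgroup.centralizer ({y} : Set LyMat.Q)).subgroupOf (St (ptN node2)) := by
      rw [Subgroup.mem_subgroupOf, Subgroup.mem_centralizer_singleton_iff]
      show s * y = y * s
      simp only [s, y]
      calc t⁻¹ * Ly.model.el (node4.sp 1) * t * (t⁻¹ * Ly.model.el (cls.word (node4.R.ks 0)) * t)
          = t⁻¹ * (Ly.model.el (node4.sp 1) * Ly.model.el (cls.word (node4.R.ks 0))) * t := by group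
        _ = t⁻¹ * (Ly.model.el (cls.word (node4.R.ks 0)) * Ly.model.el (node4.sp 1)) * t := by rw [hsy.eq]
        _ = _ := by group
    have hsp : (⟨s, s1⟩ : St (ptN node2)) ^ 7 = 1 := by
      apply Subtype.ext
      show s ^ 7 = 1
      rw [show s = t⁻¹ * Ly.model.el (node4.sp 1) * t from rfl,
        show t⁻¹ * Ly.model.el (node4.sp 1) * t = MulAut.conj t⁻¹ (Ly.model.el (node4.sp 1)) by simp,
        ← map_pow, s2, map_one]
    have hs1 : (⟨s, s1⟩ : St (ptN node2)) ≠ 1 := by
      intro e
      have e : s = 1 := congrArg Subtype.val e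
      refine s3 ?_
      calc Ly.model.el (node4.sp 1) = t * s * t⁻¹ := by simp only [s]; group
        _ = 1 := by rw [e]; group
    have hd := Subgroup.orderOf_dvd_natCard _ hs7
    rw [orderOf_eq_prime hsp hs1] at hd
    omega
  fin_cases m <;> simp at hm hc hnot2
  · exfalso; rw [hc] at h7; norm_num at h7
  · exfalso; rw [hc] at h7; norm_num at h7
  · exact ⟨hc, q, hq⟩

end Cfsg.Agent.LyThree
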