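import Cfsg.Agent.LyThree.Cls
import Cfsg.Agent.DCoset.Sift

/-!
Data of a node: a representative, generators of its stabiliser with their conjugates, and the
members of the class in it.
-/

set_option autoImplicit false

namespace Cfsg.Agent.LyThree

open Cfsg.Agent.DCoset Cfsg.Agent.CosetCert

/-- A node. -/
structure Node where
  T : TSift
  R : Part
  g : List Nat
  n0 : Nat
  winv : Nat → Nat
  img : Nat → Nat
  expr : Nat → List Nat
  cy : Nat
  sp : Nat → Nat

/-- The nonzero bytes of a number, less one. -/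
noncomputable def unbytes : Nat → Nat → List Nat :=
  fun n => Nat.rec (motive := fun _ => Nat → List Nat) (fun _ => [])
    (fun _ ih v => Bool.rec (motive := fun _ => List Nat)
      (Nat.sub (Nat.mod v 256) 1 :: ih (Nat.div v 256)) [] (Nat.beq v 0)) n

namespace Node

variable (D : Node) (P : Tab)

/-- An original generator or the inverse of one. -/
noncomputable def bw (i : Nat) : Nat :=
  Bool.rec (motive := fun _ => Nat) (D.winv (Nat.sub i D.n0)) (D.T.gen i) (Nat.blt i D.n0)

/-- The inverse word and the conjugate word are spelled. -/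
noncomputable def checkInv (i : Nat) : Bool :=
  force (D.winv i) fun w => gate (P.okWord w) (gate (P.okWord (D.img i))
    (Nat.beq (P.app (P.app P.base (D.T.gen i)) w) P.base))

/-- A further generator is a product of the original ones. -/
noncomputable def checkExpr (a : Nat) : Bool :=
  gate ((D.expr a).all fun i => Nat.blt i (Nat.add D.n0 D.n0))
    (Nat.beq (tupL P ((D.expr a).map (bw D))) (P.app P.base (D.T.gen (Nat.add D.n0 a))))

/-- All conditions in the model. -/
structure Ok (C : Cls) : Prop where
  t_ok : TSift.Ok D.T P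
  r_ok : Part.Ok D.R C D.T P
  le : D.n0 ≤ D.T.nGen
  inv_ok : ∀ i, i < D.n0 → checkInv D P i = true
  expr_ok : ∀ a, a < D.T.nGen - D.n0 → checkExpr D P a = true
  cy_lt : D.cy < C.n
  g_lt : ∀ x ∈ D.g, x < 10

variable {D} {Q : Type*} [Group Q] {M : QModel Q} {C : Cls}

/-- All listed generators lie in a subgroup that has the original ones. -/
theorem gen_mem (V : Ok D M.toTab C) (S : Subgroup Q) (h : ∀ i, i < D.n0 → M.el (D.T.gen i) ∈ S) :
    ∀ a, a < D.T.nGen → M.el (D.T.gen a) ∈ S := by
  intro a ha
  by_cases h0 : a < D.n0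
  · exact h a h0
  have he := V.expr_ok (a - D.n0) (by omega)
  simp only [checkExpr, gate_eq, Bool.and_eq_true] at he
  obtain ⟨hlt, he⟩ := he
  have hb : ∀ i ∈ D.expr (a - D.n0), M.toTab.okWord (bw D i) = true ∧ M.el (bw D i) ∈ S := by
    intro i hi
    have hi2 := Nat.ble_eq.mp (List.all_eq_true.1 hlt i hi)
    simp only [Nat.add_eq] at hi2
    rw [bw]
    cases hb : Nat.blt i D.n0
    · have hge : D.n0 ≤ i := by
        rcases Nat.lt_or_ge i D.n0 with h' | h'
        · rw [show Nat.blt i D.n0 = true from Nat.ble_eq.mpr h'] at hb; exact absurd hb (by simp)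
        · exact h'
      have hk := V.inv_ok (i - D.n0) (by omega)
      simp only [checkInv, force_eq, gate_eq, Bool.and_eq_true] at hk
      obtain ⟨h1, -, h2⟩ := hk
      have hg := TSift.gen_word V.t_ok (a := i - D.n0) (by have := V.le; omega)
      have e := Nat.eq_of_beq_eq_true h2
      rw [TSift.base_el M hg, TSift.tup_el M h1, ← M.one] at e
      refine ⟨h1, ?_⟩
      show M.el (D.winv (i - D.n0)) ∈ S
      rw [eq_inv_of_mul_eq_one_right (M.inj e)]
      exact S.inv_mem (h _ (by omega))
    · have hi' := Nat.ble_eq.mp hb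
      exact ⟨TSift.gen_word V.t_ok (by have := V.le; omega), h i hi'⟩
  have e := Nat.eq_of_beq_eq_true he
  simp only [Nat.add_eq] at e
  rw [show D.n0 + (a - D.n0) = a by omega, Sift.tupL_eq _ (fun w hw => by
    obtain ⟨i, hi, rfl⟩ := List.mem_map.1 hw
    exact (hb i hi).1), TSift.base_el M (TSift.gen_word V.t_ok ha)] at e
  rw [← M.inj e]
  refine Subgroup.list_prod_mem S fun q hq => ?_
  obtain ⟨w, hw, rfl⟩ := List.mem_map.1 hq
  obtain ⟨i, hi, rfl⟩ := List.mem_map.1 hw
  exact (hb i hi).2

end Node

/-- A word whose tuple sifts and is a root of one of order `p`, but not one. -/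
noncomputable def checkRoot (T : TSift) (P : Tab) (p w : Nat) : Bool :=
  gate (P.okWord w) (force (P.app P.base w) fun v => gate (T.mem P v)
    (gate (Nat.beq (Nat.rec (motive := fun _ => Nat) P.base (fun _ ih => P.app ih w) p) P.base)
      (Bool.rec (motive := fun _ => Bool) true false (Nat.beq v P.base))))

variable {Q : Type*} [Group Q] {M : QModel Q}

theorem root_spec [Finite Q] {T : TSift} {p w : Nat} (V : TSift.Ok T M.toTab) (S : Subgroup Q)
    (hgen : ∀ a, a < T.nGen → M.el (T.gen a) ∈ S) (h : checkRoot T M.toTab p w = true) :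
    M.toTab.okWord w = true ∧ M.el w ∈ S ∧ M.el w ^ p = 1 ∧ M.el w ≠ 1 := by
  simp only [checkRoot, force_eq, gate_eq, Bool.and_eq_true] at h
  obtain ⟨hw, hm, hp, hne⟩ := h
  rw [TSift.base_el M hw] at hm hne
  have hpow : ∀ n : Nat, Nat.rec (motive := fun _ => Nat) M.base (fun _ ih => M.toTab.app ih w) n =
      M.tup (M.el w ^ n) := by
    intro n
    induction n with
    | zero => rw [pow_zero, M.one]; rfl
    | succ n ih =>
      show M.toTab.app (Nat.rec (motive := fun _ => Nat) M.base (fun _ ih => M.toTab.app ih w) n) w = _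
      rw [ih, TSift.tup_el M hw, pow_succ]
  refine ⟨hw, TSift.sift_mem V S hgen _ 0 (by omega) _ hm, M.inj ?_, fun e => ?_⟩
  · rw [← hpow p, M.one]
    exact Nat.eq_of_beq_eq_true hp
  · rw [e, M.one, Nat.beq_refl] at hne
    exact Bool.noConfusion hne

end Cfsg.Agent.LyThree
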