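import Cfsg.Agent.LyThree.QFacts
import Cfsg.Agent.LyThree.Iota
import Cfsg.Agent.LyThree.Node

/-!
The cosets of the nodes: stabilisers, and the orbits they belong to.
-/

set_option autoImplicit false
set_option maxRecDepth 100000

namespace Cfsg.Agent.LyThree

open Cfsg.Agent.DCoset Cfsg.Agent.CosetCert

/-- The cosets of the subgroup. -/
abbrev X : Type := LyLocal.P ⧸ iota.range

/-- The stabiliser in the subgroup of a coset. -/
noncomputable def St (z : X) : Subgroup LyMat.Q := (MulAction.stabilizer LyLocal.P z).comap iota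

theorem mem_St {z : X} {q : LyMat.Q} : q ∈ St z ↔ iota q • z = z := Iff.rfl

/-- The coset of a node. -/
noncomputable def ptN (D : Node) : X := QuotientGroup.mk (LyLocal.elW D.g)⁻¹

/-- The orbit lengths are known. -/
structure Orbits where
  pt : Fin 5 → X
  zero : pt 0 = QuotientGroup.mk 1
  cover : ∀ z : X, ∃ m q, z = iota q • pt m
  card : ∀ m, Nat.card (St (pt m)) = ![5859000000, 300000, 6048, 2880, 1008] m

theorem St_smul (q : LyMat.Q) (z : X) (a : LyMat.Q) :
    a ∈ St (iota q • z) ↔ q⁻¹ * a * q ∈ St z := by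
  simp only [mem_St, map_mul, map_inv, mul_smul, inv_smul_eq_iff]

theorem card_St_smul (q : LyMat.Q) (z : X) : Nat.card (St (iota q • z)) = Nat.card (St z) := by
  refine Nat.card_congr ⟨fun a => ⟨q⁻¹ * a * q, (St_smul q z a).1 a.2⟩,
    fun a => ⟨q * a * q⁻¹, (St_smul q z _).2 (by simpa [mul_assoc] using a.2)⟩, fun a => ?_, fun a => ?_⟩
  · exact Subtype.ext (by simp [mul_assoc])
  · exact Subtype.ext (by simp [mul_assoc])

variable [IsSimpleGroup LyLocal.P]

theorem node_mem {D : Node} (V : Node.Ok D Ly.model.toTab cls)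
    (he : ∀ i, i < D.n0 →
      LyLocal.sameB (D.g ++ pLets (D.T.gen i)) (pLets (D.img i) ++ D.g) = true) :
    ∀ a, a < D.T.nGen → Ly.model.el (D.T.gen a) ∈ St (ptN D) := by
  refine Node.gen_mem V _ fun i hi => ?_
  have hg := TSift.gen_word V.t_ok (a := i) (by have := V.le; omega)
  have hk := V.inv_ok i hi
  simp only [Node.checkInv, force_eq, gate_eq, Bool.and_eq_true] at hk
  have hi2 := hk.2.1
  have e := LyLocal.eq_of_same (he i hi)
    (all_lt fun x hx => (List.mem_append.1 hx).elim (V.g_lt x) (pLets_lt hg x))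
    (all_lt fun x hx => (List.mem_append.1 hx).elim (pLets_lt hi2 x) (V.g_lt x))
  rw [elW_append, elW_append, ← iota_el hg, ← iota_el hi2] at e
  rw [mem_St, ptN]
  show (QuotientGroup.mk (iota _ * _) : X) = _
  rw [QuotientGroup.eq]
  refine ⟨(Ly.model.el (D.img i))⁻¹, ?_⟩
  have e' : (LyLocal.elW D.g) * iota (Ly.model.el (D.T.gen i)) * (LyLocal.elW D.g)⁻¹ =
      iota (Ly.model.el (D.img i)) := by rw [e, mul_inv_cancel_right]
  rw [map_inv, ← e']
  group

theorem node_ge {D : Node} (V : Node.Ok D Ly.model.toTab cls)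
    (he : ∀ i, i < D.n0 →
      LyLocal.sameB (D.g ++ pLets (D.T.gen i)) (pLets (D.img i) ++ D.g) = true) {n : Nat}
    (hn : ((List.range Ly.tab.k).map D.T.size).prod = n) : n ≤ Nat.card (St (ptN D)) :=
  hn ▸ TSift.card_ge V.t_ok _ (node_mem V he)

omit [IsSimpleGroup LyLocal.P] in
/-- A node outside the subgroup is in one of the four long orbits. -/
theorem node_orbit (O : Orbits) {D : Node} (hout : LyLocal.elW D.g ∉ iota.range) :
    ∃ m, m ≠ 0 ∧ ∃ q, ptN D = iota q • O.pt m := by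
  obtain ⟨m, q, hq⟩ := O.cover (ptN D)
  refine ⟨m, fun h => hout ?_, q, hq⟩
  subst h
  rw [O.zero] at hq
  have h1 : (QuotientGroup.mk (LyLocal.elW D.g)⁻¹ : X) = QuotientGroup.mk (iota q * 1) := hq
  rw [QuotientGroup.eq, inv_inv, mul_one] at h1
  have h2 := mul_mem h1 (inv_mem (⟨q, rfl⟩ : iota q ∈ iota.range))
  rwa [mul_inv_cancel_right] at h2

/-- The number of members of the class in a node stabiliser times their centraliser. -/
theorem cent_mul {S : Subgroup LyMat.Q} {c : Nat} {y : LyMat.Q} (hy : y ∈ S) (hc : IsConj xQ y)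
    (hcard : Nat.card {s : LyMat.Q // s ∈ S ∧ IsConj xQ s} = c)
    (htr : ∀ z ∈ S, IsConj xQ z → ∃ s ∈ S, s * y * s⁻¹ = z) :
    Nat.card ((Subgroup.centralizer ({y} : Set LyMat.Q)).subgroupOf S) * c = Nat.card S := by
  set C := (Subgroup.centralizer ({y} : Set LyMat.Q)).subgroupOf S
  have hC : C.index = c := by
    rw [← hcard]
    have hiff : ∀ a b : S, a⁻¹ * b ∈ C ↔
        (a : LyMat.Q) * y * (a : LyMat.Q)⁻¹ = (b : LyMat.Q) * y * (b : LyMat.Q)⁻¹ := by
      intro a b
      rw [Subgroup.mem_subgroupOf, Subgroup.mem_centralizer_singleton_iff, Subgroup.coe_mul,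
        InvMemClass.coe_inv]
      constructor
      · intro h
        calc (a : LyMat.Q) * y * (a : LyMat.Q)⁻¹
            = a * (y * ((a : LyMat.Q)⁻¹ * b)) * (b : LyMat.Q)⁻¹ := by group
          _ = a * ((a : LyMat.Q)⁻¹ * b * y) * (b : LyMat.Q)⁻¹ := by rw [← h]
          _ = b * y * (b : LyMat.Q)⁻¹ := by group
      · intro h
        calc (a : LyMat.Q)⁻¹ * b * y = (a : LyMat.Q)⁻¹ * (b * y * (b : LyMat.Q)⁻¹) * b := by group
          _ = (a : LyMat.Q)⁻¹ * (a * y * (a : LyMat.Q)⁻¹) * b := by rw [h]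
          _ = y * ((a : LyMat.Q)⁻¹ * b) := by group
    refine Nat.card_eq_of_bijective (fun q : S ⧸ C => Quotient.liftOn' q
      (fun s => (⟨(s : LyMat.Q) * y * (s : LyMat.Q)⁻¹, S.mul_mem (S.mul_mem s.2 hy) (S.inv_mem s.2),
        hc.trans (isConj_iff.2 ⟨_, rfl⟩)⟩ : {s : LyMat.Q // s ∈ S ∧ IsConj xQ s})) ?_) ⟨?_, ?_⟩
    · intro a b h
      rw [QuotientGroup.leftRel_apply] at h
      exact Subtype.ext ((hiff a b).1 h)
    · intro u v h
      induction u using QuotientGroup.induction_on with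
      | _ a =>
        induction v using QuotientGroup.induction_on with
        | _ b => exact QuotientGroup.eq.2 ((hiff a b).2 (congrArg Subtype.val h))
    · rintro ⟨z, hz, hzc⟩
      obtain ⟨s, hs, e⟩ := htr z hz hzc
      exact ⟨QuotientGroup.mk ⟨s, hs⟩, Subtype.ext e⟩
  rw [← hC, C.card_mul_index]

end Cfsg.Agent.LyThree
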