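import Cfsg.Agent.DCoset.Ly.Model
import Cfsg.Agent.LyThree.ClsOk
import Cfsg.Agent.LyThree.CentOk
import Cfsg.Agent.LyThree.Cls

/-!
The centraliser of an element of order three in the subgroup `G2(5)` of the Lyons group.
-/

set_option autoImplicit false
set_option maxRecDepth 100000

namespace Cfsg.Agent.LyThree

open Cfsg.Agent.DCoset Cfsg.Agent.CosetCert

instance qFinite : Finite LyMat.Q := LyMat.q_card.1

theorem q_card : Nat.card LyMat.Q = 5859000000 := by
  refine le_antisymm LyMat.q_card.2 ?_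
  have h := Ly.model.card_ge ⊤ Ly.qChain (fun _ _ _ _ => trivial)
    (fun l a hl ha => allFrom_all (allFrom_all Ly.qChain_gen hl :) ha)
    (fun l j hl hj => allFrom_all (allFrom_all Ly.qChain_pt hl :) hj)
  rw [show ((List.range Ly.model.k).map Ly.qChain.size).prod = 5859000000 from Ly.qChain_prod,
    Subgroup.card_top] at h
  exact h

/-- The element of order three. -/
noncomputable def xQ : LyMat.Q := Ly.model.el cent.xw

/-- Its centraliser. -/
noncomputable def LQ : Subgroup LyMat.Q := Subgroup.centralizer ({xQ} : Set LyMat.Q)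

theorem word_zero : cls.word 0 = cent.xw := by decide +kernel

theorem xQ_eq : Ly.model.el (cls.word 0) = xQ := by rw [word_zero]; rfl

theorem card_LQ_ge : 378000 ≤ Nat.card LQ := Cent.card_ge (M := Ly.model) cent_ok

theorem cls_complete : Nat.card LQ = 378000 ∧
    ∀ y, IsConj xQ y → ∃ i, i < cls.n ∧ Ly.model.el (cls.word i) = y := by
  have h := Cls.complete (M := Ly.model) cls_ok (c := 378000) (by rw [cls_n]; norm_num)
    (by rw [q_card, cls_n]) (by rw [xQ_eq]; exact card_LQ_ge)
  rw [xQ_eq] at h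
  exact h

theorem card_LQ : Nat.card LQ = 378000 := cls_complete.1

theorem act_word (w : Nat) (hw : Ly.model.toTab.okWord w = true) (p : Fin 3906) :
    actW Ly.model.act p.val w = ((Ly.rho (Ly.model.el w))⁻¹ p).val :=
  Ly.acts.foldW_eq _ _ _ hw

theorem LQ_simple (K : Subgroup LyMat.Q) (hK : K ≤ LQ) (hx : xQ ∈ K)
    (hn : ∀ l ∈ LQ, ∀ m ∈ K, l * m * l⁻¹ ∈ K) : K = Subgroup.zpowers xQ ∨ K = LQ :=
  Cent.simple (M := Ly.model) cent_ok Ly.rho act_word card_LQ K hK hx hn

theorem orderOf_xQ : orderOf xQ = 3 := by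
  have hw : Ly.model.toTab.okWord cent.xw = true := cent_ok.xw_ok
  haveI : Fact (Nat.Prime 3) := ⟨by norm_num⟩
  refine orderOf_eq_prime (Ly.model.inj ?_) fun h => ?_
  · rw [Ly.model.one, pow_succ, pow_two, xQ, ← TSift.tup_el _ hw, ← TSift.tup_el _ hw,
      ← TSift.base_el _ hw]
    exact Nat.eq_of_beq_eq_true (show Nat.beq
      (Ly.tab.app (Ly.tab.app (Ly.tab.app Ly.tab.base cent.xw) cent.xw) cent.xw) Ly.tab.base = true by
        decide +kernel)
  · have e : Ly.tab.app Ly.tab.base cent.xw = Ly.tab.base := by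
      show Ly.model.toTab.app Ly.model.toTab.base cent.xw = _
      rw [TSift.base_el _ hw]
      show Ly.model.tup xQ = Ly.model.base
      rw [h, Ly.model.one]
    have : Nat.beq (Ly.tab.app Ly.tab.base cent.xw) Ly.tab.base = false := by decide +kernel
    rw [e, Nat.beq_refl] at this
    exact Bool.noConfusion this

theorem zpowers_le_LQ : Subgroup.zpowers xQ ≤ LQ :=
  Subgroup.zpowers_le.2 (Subgroup.mem_centralizer_singleton_iff.2 rfl)

/-- The centraliser is not abelian: two of its words do not commute. -/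
theorem LQ_noncomm : ∃ a ∈ LQ, ∃ b ∈ LQ, a * b ≠ b * a := by
  have h0 := cent_ok.s_ok 0 (by decide +kernel)
  have h2 := cent_ok.s_ok 2 (by decide +kernel)
  simp only [Cent.checkS, force_eq, gate_eq, Bool.and_eq_true] at h0 h2
  obtain ⟨w0, c0⟩ := Cent.mem_of_inC (M := Ly.model) cent_ok h0.1
  obtain ⟨w2, c2⟩ := Cent.mem_of_inC (M := Ly.model) cent_ok h2.1
  refine ⟨_, c0, _, c2, fun h => ?_⟩
  have e : Ly.tab.app (Ly.tab.app Ly.tab.base (cent.sw 0)) (cent.sw 2) =
      Ly.tab.app (Ly.tab.app Ly.tab.base (cent.sw 2)) (cent.sw 0) := by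
    show Ly.model.toTab.app (Ly.model.toTab.app Ly.model.toTab.base _) _ = Ly.model.toTab.app (Ly.model.toTab.app Ly.model.toTab.base _) _
    rw [TSift.base_el _ w0, TSift.base_el _ w2, TSift.tup_el _ w0, TSift.tup_el _ w2, h]
  have : Nat.beq (Ly.tab.app (Ly.tab.app Ly.tab.base (cent.sw 0)) (cent.sw 2))
      (Ly.tab.app (Ly.tab.app Ly.tab.base (cent.sw 2)) (cent.sw 0)) = false := by decide +kernel
  rw [e, Nat.beq_refl] at this
  exact Bool.noConfusion this

end Cfsg.Agent.LyThree
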