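import Cfsg.Agent.DCoset.Emit

/-!
Deciding membership of a subgroup of a model from a transversal for each base point.
-/

set_option autoImplicit false

namespace Cfsg.Agent.LyThree

open Cfsg.Agent.DCoset Cfsg.Agent.CosetCert

/-- Transversal words with inverse words for each base point, each one a parent times a generator. -/
structure TSift where
  size : Nat → Nat
  pt : Nat → Nat → Nat
  rep : Nat → Nat → Nat
  repi : Nat → Nat → Nat
  par : Nat → Nat → Nat
  via : Nat → Nat → Nat
  pos : Nat → Nat → Nat
  nGen : Nat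
  gen : Nat → Nat

namespace TSift

variable (T : TSift) (P : Tab)

/-- The transversal word `i` of level `l`. -/
noncomputable def checkRep (l i : Nat) : Bool :=
  force (T.rep l i) fun w => force (T.repi l i) fun w' => gate (P.okWord w) (gate (P.okWord w')
    (force (P.app P.base w) fun v => gate (Nat.beq (P.app v w') P.base)
      (gate (Nat.beq (fld v l) (T.pt l i)) (gate (Nat.beq (T.pos l (T.pt l i)) i)
        (gate (allFrom (fun b => Nat.beq (fld v b) (fld P.base b)) 0 l)
          (Bool.rec (motive := fun _ => Bool)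
            (gate (Nat.blt (T.par l i) i) (gate (Nat.blt (T.via l i) T.nGen)
              (Nat.beq v (P.app (P.app P.base (T.rep l (T.par l i))) (T.gen (T.via l i))))))
            (Nat.beq v P.base) (Nat.beq i 0)))))))

/-- The generators are spelled in the letters. -/
noncomputable def checkGens : Bool := allFrom (fun a => P.okWord (T.gen a)) 0 T.nGen

/-- Sift a tuple through the levels from `l` on. -/
noncomputable def sift : Nat → Nat → Nat → Bool :=
  fun d => Nat.rec (fun _ v => Nat.beq v P.base)
    (fun _ ih l v => force (fld v l) fun p => force (T.pos l p) fun i =>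
      gate (Nat.blt i (T.size l)) (gate (Nat.beq (T.pt l i) p)
        (force (P.app v (T.repi l i)) fun v' => ih (Nat.succ l) v'))) d

/-- A tuple of an element of the subgroup. -/
noncomputable def mem (v : Nat) : Bool := sift T P P.k 0 v

theorem sift_zero (l v : Nat) : sift T P 0 l v = Nat.beq v P.base := rfl

theorem sift_succ (d l v : Nat) : sift T P (d + 1) l v =
    (Nat.blt (T.pos l (fld v l)) (T.size l) && (Nat.beq (T.pt l (T.pos l (fld v l))) (fld v l) &&
      sift T P d (l + 1) (P.app v (T.repi l (T.pos l (fld v l)))))) := by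
  simp only [sift, force_eq, gate_eq, Nat.succ_eq_add_one]

variable {T} {Q : Type*} [Group Q] (M : QModel Q)

theorem tup_el {w : Nat} (hw : M.toTab.okWord w = true) (a : Q) :
    M.toTab.app (M.tup a) w = M.tup (a * M.el w) := by
  rw [Tab.app, force_eq]
  exact (M.tup_mul_word _ _ _ hw).symm

theorem base_el {w : Nat} (hw : M.toTab.okWord w = true) :
    M.toTab.app M.base w = M.tup (M.el w) := by
  rw [← M.one, tup_el M hw, one_mul]

/-- All conditions. -/
structure Ok (T : TSift) (P : Tab) : Prop where
  rep_ok : ∀ l i, l < P.k → i < T.size l → checkRep T P l i = true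
  gen_ok : checkGens T P = true

variable {M}

theorem rep_spec (V : Ok T M.toTab) {l i : Nat} (hl : l < M.k) (hi : i < T.size l) :
    M.toTab.okWord (T.rep l i) = true ∧ M.toTab.okWord (T.repi l i) = true ∧
      M.el (T.repi l i) = (M.el (T.rep l i))⁻¹ ∧ fld (M.tup (M.el (T.rep l i))) l = T.pt l i ∧
      T.pos l (T.pt l i) = i ∧ (∀ b, b < l → fld (M.tup (M.el (T.rep l i))) b = fld M.base b) ∧
      (i = 0 → M.el (T.rep l i) = 1) ∧
      (i ≠ 0 → T.par l i < i ∧ T.via l i < T.nGen ∧
        ∀ (_ : M.toTab.okWord (T.rep l (T.par l i)) = true) (_ : M.toTab.okWord (T.gen (T.via l i)) = true),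
          M.el (T.rep l i) = M.el (T.rep l (T.par l i)) * M.el (T.gen (T.via l i))) := by
  have h := V.rep_ok l i hl hi
  simp only [checkRep, force_eq, gate_eq, Bool.and_eq_true] at h
  obtain ⟨h1, h2, h3, h4, h5, h6, h7⟩ := h
  have e3 := Nat.eq_of_beq_eq_true h3
  rw [base_el M h1, tup_el M h2, ← M.one] at e3
  rw [base_el M h1] at h4 h6 h7
  refine ⟨h1, h2, eq_inv_of_mul_eq_one_right (M.inj e3), Nat.eq_of_beq_eq_true h4,
    Nat.eq_of_beq_eq_true h5,
    fun b hb => Nat.eq_of_beq_eq_true ((allFrom_iff _ _ _).1 h6 b (Nat.zero_le _) (by omega)),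
    fun h0 => ?_, fun h0 => ?_⟩
  · subst h0
    have e := Nat.eq_of_beq_eq_true (show Nat.beq (M.tup (M.el (T.rep l 0))) M.base = true from h7)
    rw [← M.one] at e
    exact M.inj e
  · have hb : Nat.beq i 0 = false := by
      cases hb : Nat.beq i 0
      · rfl
      · exact absurd (Nat.eq_of_beq_eq_true hb) h0
    rw [hb] at h7
    simp only [Bool.and_eq_true] at h7
    obtain ⟨hp, hv, he⟩ := h7
    refine ⟨Nat.ble_eq.mp hp, Nat.ble_eq.mp hv, fun hw hg => M.inj ?_⟩
    rw [← tup_el M hg, ← base_el M hw]
    exact Nat.eq_of_beq_eq_true he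

theorem gen_word (V : Ok T M.toTab) {a : Nat} (ha : a < T.nGen) :
    M.toTab.okWord (T.gen a) = true :=
  (allFrom_iff _ _ _).1 V.gen_ok a (Nat.zero_le _) (by omega)

theorem rep_mem (V : Ok T M.toTab) (S : Subgroup Q) (hgen : ∀ a, a < T.nGen → M.el (T.gen a) ∈ S)
    {l : Nat} (hl : l < M.k) : ∀ i, i < T.size l → M.el (T.rep l i) ∈ S := by
  intro i
  induction i using Nat.strong_induction_on with
  | _ i ih =>
    intro hi
    obtain ⟨-, -, -, -, -, -, h0, hn⟩ := rep_spec V hl hi
    by_cases hz : i = 0
    · rw [h0 hz]; exact S.one_mem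
    · obtain ⟨hp, hv, he⟩ := hn hz
      rw [he (rep_spec V hl (by omega)).1 (gen_word V hv)]
      exact S.mul_mem (ih _ hp (by omega)) (hgen _ hv)

theorem sift_mem (V : Ok T M.toTab) (S : Subgroup Q) (hgen : ∀ a, a < T.nGen → M.el (T.gen a) ∈ S) :
    ∀ d l, l + d ≤ M.k → ∀ a, sift T M.toTab d l (M.tup a) = true → a ∈ S
  | 0, _, _, a, h => by
    have e : M.tup a = M.base := Nat.eq_of_beq_eq_true h
    rw [← M.one] at e
    rw [M.inj e]; exact S.one_mem
  | d + 1, l, hd, a, h => by
    rw [sift_succ] at h
    simp only [Bool.and_eq_true] at h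
    obtain ⟨hi, -, h⟩ := h
    have hi := Nat.ble_eq.mp hi
    have hl : l < M.k := by omega
    obtain ⟨-, hw, hinv, -⟩ := rep_spec V hl hi
    rw [tup_el M hw] at h
    have h1 := sift_mem V S hgen d (l + 1) (by omega) _ h
    rw [hinv] at h1
    simpa using S.mul_mem h1 (rep_mem V S hgen hl _ hi)

/-- The elements that sift from level `l` on and fix the earlier base points. -/
def sifts (T : TSift) (M : QModel Q) (l : Nat) : Set Q :=
  {a | (∀ b, b < l → fld (M.tup a) b = fld M.base b) ∧ sift T M.toTab (M.k - l) l (M.tup a) = true}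

theorem sifts_card [Finite Q] (V : Ok T M.toTab) :
    ((List.range M.k).map T.size).prod ≤ Nat.card (sifts T M 0) := by
  classical
  let A : Nat → Set Q := sifts T M
  have key : ∀ d l, l + d = M.k → ((List.range' l d).map T.size).prod ≤ Nat.card (A l) := by
    intro d
    induction d with
    | zero =>
      intro l hl
      have : Nonempty (A l) := ⟨⟨1, fun b _ => by rw [M.one],
        by rw [show M.k - l = 0 by omega, sift_zero, M.one]; exact Nat.beq_refl _⟩⟩
      simp only [List.range'_zero, List.map_nil, List.prod_nil]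
      exact Nat.card_pos
    | succ d ih =>
      intro l hl
      have hl' : l < M.k := by omega
      rw [List.range'_succ, List.map_cons, List.prod_cons]
      refine le_trans (Nat.mul_le_mul_left _ (ih (l + 1) (by omega))) ?_
      have hfix : ∀ (s : A (l + 1)) (i : Fin (T.size l)) b, b ≤ l →
          fld (M.tup ((s : Q) * M.el (T.rep l i))) b = fld (M.tup (M.el (T.rep l i))) b := by
        intro s i b hb
        have hw := (rep_spec V hl' i.2).1
        rw [M.fld_tup_mul _ hw _ (by omega), s.2.1 b (by omega)]
        have e := M.fld_tup_mul _ hw 1 (show b < M.k by omega)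
        rw [one_mul, M.one] at e
        exact e.symm
      have hmem : ∀ (s : A (l + 1)) (i : Fin (T.size l)), (s : Q) * M.el (T.rep l i) ∈ A l := by
        intro s i
        obtain ⟨-, h2, h3, h4, h5, h6, -⟩ := rep_spec V hl' i.2
        refine ⟨fun b hb => (hfix s i b hb.le).trans (h6 b hb), ?_⟩
        rw [show M.k - l = (M.k - (l + 1)) + 1 by omega, sift_succ, hfix s i l le_rfl, h4, h5,
          Nat.beq_refl, tup_el M h2, h3, mul_inv_cancel_right, s.2.2,
          show Nat.blt i.1 (T.size l) = true from Nat.ble_eq.mpr i.2]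
        rfl
      let Φ : Fin (T.size l) × A (l + 1) → A l := fun x => ⟨_, hmem x.2 x.1⟩
      have hΦ : Function.Injective Φ := by
        rintro ⟨i, s⟩ ⟨i', s'⟩ he
        have he' : (s : Q) * M.el (T.rep l i) = s' * M.el (T.rep l i') := congrArg Subtype.val he
        have hp : T.pt l i = T.pt l i' := by
          rw [← (rep_spec V hl' i.2).2.2.2.1, ← hfix s i l le_rfl, he', hfix s' i' l le_rfl,
            (rep_spec V hl' i'.2).2.2.2.1]
        have hii : i = i' := Fin.ext (by
          rw [← (rep_spec V hl' i.2).2.2.2.2.1, hp, (rep_spec V hl' i'.2).2.2.2.2.1])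
        subst hii
        exact Prod.ext rfl (Subtype.ext (mul_right_cancel he'))
      simpa using Nat.card_le_card_of_injective Φ hΦ
  have h0 := key M.k 0 (Nat.zero_add _)
  rwa [← List.range_eq_range'] at h0

/-- The transversals bound the order from below. -/
theorem card_ge [Finite Q] (V : Ok T M.toTab) (S : Subgroup Q)
    (hgen : ∀ a, a < T.nGen → M.el (T.gen a) ∈ S) :
    ((List.range M.k).map T.size).prod ≤ Nat.card S :=
  (sifts_card V).trans (Nat.card_le_card_of_injective
    (fun a : sifts T M 0 => (⟨a.1, sift_mem V S hgen _ 0 (by omega) a.1 a.2.2⟩ : S))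
    fun a b h => Subtype.ext (congrArg Subtype.val h :))

/-- Membership is decided by sifting when the transversals account for the whole subgroup. -/
theorem mem_iff [Finite Q] (V : Ok T M.toTab) (S : Subgroup Q)
    (hgen : ∀ a, a < T.nGen → M.el (T.gen a) ∈ S)
    (hcard : Nat.card S ≤ ((List.range M.k).map T.size).prod) (a : Q) :
    a ∈ S ↔ mem T M.toTab (M.tup a) = true := by
  classical
  let A : Nat → Set Q := sifts T M
  have h0 := sifts_card (T := T) V
  have hsub : A 0 ⊆ (S : Set Q) := fun a ha => sift_mem V S hgen _ 0 (by omega) a ha.2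
  have heq : A 0 = (S : Set Q) :=
    Set.eq_of_subset_of_ncard_le hsub (by
      rw [← Nat.card_coe_set_eq, ← Nat.card_coe_set_eq]
      exact le_trans hcard h0) (Set.toFinite _)
  refine ⟨fun ha => ?_, fun h => sift_mem V S hgen _ 0 (by omega) a h⟩
  have h1 : a ∈ A 0 := heq ▸ ha
  exact h1.2

end TSift

end Cfsg.Agent.LyThree
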